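import Cfsg.Agent.Lib.Offender.Basic

/-!
Offenders: fixed subspaces, the inequality, and the replacement by the centralizer of `[V, A]`.
-/

set_option autoImplicit false

namespace Cfsg.Lib.Offender

variable {p : ℕ} {G V : Type*} [Group G] [AddCommGroup V] [Module (ZMod p) V]

/-- The vectors fixed by a subgroup. -/
def fixed (f : Representation (ZMod p) G V) (B : Subgroup G) : Submodule (ZMod p) V where
  carrier := {v | ∀ b ∈ B, f b v = v}
  add_mem' {u v} hu hv b hb := by rw [map_add, hu b hb, hv b hb]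
  zero_mem' b _ := map_zero _
  smul_mem' c v hv b hb := by rw [map_smul, hv b hb]

/-- The vector space inequality for `A` against all its subgroups. -/
def Offends (f : Representation (ZMod p) G V) (A : Subgroup G) : Prop :=
  ∀ B : Subgroup G, B ≤ A →
    Nat.card ↥B * Nat.card ↥(fixed f B) ≤ Nat.card ↥A * Nat.card ↥(fixed f A)

/-- `K` is perfect with central proper normal subgroups, `A` is elementary abelian and every element
of `A` either normalizes `K` or moves it to a subgroup commuting with it. -/
structure Pair (p : ℕ) (K A : Subgroup G) : Prop where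
  quasi : Quasi K
  comm : ∀ a ∈ A, ∀ b ∈ A, a * b = b * a
  exp : ∀ a ∈ A, a ^ p = 1
  move : ∀ g ∈ A, (∀ k ∈ K, g * k * g⁻¹ ∈ K) ∨
    ∀ k ∈ K, ∀ l ∈ K, (g * k * g⁻¹) * l = l * (g * k * g⁻¹)

/-- `K` is nontrivial on the module and trivial on every proper submodule invariant under `K`, `A`. -/
structure Minimal (f : Representation (ZMod p) G V) (K A : Subgroup G) : Prop where
  nontriv : ∃ k ∈ K, f k ≠ 1
  minimal : ∀ W : Submodule (ZMod p) V, (∀ k ∈ K, ∀ w ∈ W, f k w ∈ W) →
    (∀ a ∈ A, ∀ w ∈ W, f a w ∈ W) → W ≠ ⊤ → ∀ k ∈ K, ∀ w ∈ W, f k w = w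

variable {f : Representation (ZMod p) G V}

theorem mem_fixed {B : Subgroup G} {v : V} : v ∈ fixed f B ↔ ∀ b ∈ B, f b v = v := Iff.rfl

theorem sub_one_pow [Fact p.Prime] {g : G} (hg : g ^ p = 1) : (f g - 1) ^ p = 0 := by
  obtain ⟨r, hr⟩ := (Commute.one_right (f g - 1)).exists_add_pow_prime_eq (Fact.out (p := p.Prime))
  have hp : (p : Module.End (ZMod p) V) = 0 := by
    rw [← map_natCast (algebraMap (ZMod p) (Module.End (ZMod p) V)) p, ZMod.natCast_self, map_zero]
  rw [sub_add_cancel, ← map_pow, hg, map_one, one_pow, hp] at hr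
  simp only [zero_mul, mul_zero, add_zero] at hr
  exact right_eq_add.1 hr

/-- A nilpotent operator commuting with `K` and `A` vanishes. -/
theorem Minimal.eq_zero {K A : Subgroup G} (hm : Minimal f K A) (hK : Quasi K)
    (T : Module.End (ZMod p) V) {n : ℕ} (hn : T ^ n = 0)
    (hTK : ∀ k ∈ K, f k * T = T * f k) (hTA : ∀ a ∈ A, f a * T = T * f a) : T = 0 := by
  by_contra hT
  obtain ⟨k₀, hk₀, hne⟩ := hm.nontriv
  apply hne
  refine hK.eq_one_of_sq (fun l hl k hk => ?_) k₀ hk₀
  classical
  have hex : ∃ i, T ^ i = 0 := ⟨n, hn⟩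
  have h0 := Nat.find_spec hex
  have hpos : Nat.find hex ≠ 0 := by
    intro h
    rw [h, pow_zero] at h0
    exact hT (by rw [← mul_one T, h0, mul_zero])
  obtain ⟨i, hi⟩ := Nat.exists_eq_succ_of_ne_zero hpos
  have hi0 : T ^ i ≠ 0 := Nat.find_min hex (by omega)
  have hmem : ∀ (S : Module.End (ZMod p) V) (g : G), f g * S = S * f g →
      ∀ w ∈ LinearMap.ker S, f g w ∈ LinearMap.ker S := by
    intro S g hg w hw
    rw [LinearMap.mem_ker, ← Module.End.mul_apply, ← hg, Module.End.mul_apply,
      LinearMap.mem_ker.1 hw, map_zero]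
  have hne' : ∀ S : Module.End (ZMod p) V, S ≠ 0 → LinearMap.ker S ≠ ⊤ :=
    fun S hS h => hS (LinearMap.ker_eq_top.1 h)
  have h1 := hm.minimal (LinearMap.ker (T ^ i))
    (fun g hg => hmem _ g ((show Commute (f g) T from hTK g hg).pow_right i))
    (fun g hg => hmem _ g ((show Commute (f g) T from hTA g hg).pow_right i)) (hne' _ hi0)
  have h2 := hm.minimal (LinearMap.ker T) (fun g hg => hmem _ g (hTK g hg))
    (fun g hg => hmem _ g (hTA g hg)) (hne' _ hT)
  apply LinearMap.ext
  intro v
  have hv : T v ∈ LinearMap.ker (T ^ i) := by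
    rw [LinearMap.mem_ker, ← Module.End.mul_apply, ← pow_succ,
      show i + 1 = Nat.find hex by omega, h0, LinearMap.zero_apply]
  have hkv : f k v - v ∈ LinearMap.ker T := by
    rw [LinearMap.mem_ker, map_sub, sub_eq_zero, ← Module.End.mul_apply, ← hTK k hk,
      Module.End.mul_apply, h1 k hk _ hv]
  have := h2 l hl _ hkv
  simp only [Module.End.mul_apply, LinearMap.sub_apply, Module.End.one_apply,
    LinearMap.zero_apply]
  rw [this, sub_self]

theorem card_mul_card_le [Finite G] (H K : Subgroup G) :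
    Nat.card ↥H * Nat.card ↥K ≤ Nat.card ↥(H ⊓ K) * Nat.card ↥(H ⊔ K) := by
  have h1 := Subgroup.relIndex_mul_relIndex ⊥ (H ⊓ K) H bot_le inf_le_left
  have h2 := Subgroup.relIndex_mul_relIndex ⊥ K (H ⊔ K) bot_le le_sup_right
  rw [Subgroup.relIndex_bot_left, Subgroup.relIndex_bot_left, Subgroup.inf_relIndex_left] at h1
  rw [Subgroup.relIndex_bot_left, Subgroup.relIndex_bot_left] at h2
  have h3 : K.relIndex H ≤ K.relIndex (H ⊔ K) :=
    Subgroup.relIndex_le_of_le_right le_sup_left (Subgroup.index_ne_zero_of_finite)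
  rw [← h1, ← h2, mul_assoc]
  refine Nat.mul_le_mul_left _ ?_
  rw [mul_comm]
  exact Nat.mul_le_mul_left _ h3

theorem card_mul_card_le' [Finite V] (H K : Submodule (ZMod p) V) :
    Nat.card ↥H * Nat.card ↥K ≤ Nat.card ↥(H ⊓ K) * Nat.card ↥(H ⊔ K) := by
  let e : ↥H × ↥K → ↥(H ⊔ K) := fun x => ⟨x.1 + x.2,
    add_mem (Submodule.mem_sup_left x.1.2) (Submodule.mem_sup_right x.2.2)⟩
  let s : ↥(H ⊔ K) → ↥H × ↥K := fun z =>
    (⟨_, (Submodule.mem_sup.1 z.2).choose_spec.1⟩,
      ⟨_, (Submodule.mem_sup.1 z.2).choose_spec.2.choose_spec.1⟩)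
  have hs : ∀ z, ((s z).1 : V) + (s z).2 = z := fun z =>
    (Submodule.mem_sup.1 z.2).choose_spec.2.choose_spec.2
  have hd : ∀ x : ↥H × ↥K, (x.1 : V) - (s (e x)).1 ∈ H ⊓ K := by
    intro x
    refine ⟨H.sub_mem x.1.2 (s (e x)).1.2, ?_⟩
    have h := hs (e x)
    have h' : (x.1 : V) - (s (e x)).1 = (s (e x)).2 - x.2 := by
      have h'' : ((s (e x)).1 : V) + (s (e x)).2 = x.1 + x.2 := h
      rw [sub_eq_sub_iff_add_eq_add, ← h'']; abel
    rw [h']
    exact K.sub_mem (s (e x)).2.2 x.2.2
  rw [← Nat.card_prod, ← Nat.card_prod]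
  refine Nat.card_le_card_of_injective (fun x => (⟨_, hd x⟩, e x)) ?_
  intro x y hxy
  obtain ⟨h1, h2⟩ := Prod.mk.inj hxy
  have h1' : (x.1 : V) - (s (e x)).1 = (y.1 : V) - (s (e y)).1 := congrArg Subtype.val h1
  rw [h2, sub_left_inj] at h1'
  have h2' : (x.1 : V) + x.2 = y.1 + y.2 := congrArg Subtype.val h2
  rw [h1', add_right_inj] at h2'
  exact Prod.ext (Subtype.ext h1') (Subtype.ext h2')

/-- The replacement: `B` centralizes `[V, A]` and offends as well as `A`. -/
theorem replacement [Finite G] [Finite V] {A : Subgroup G} (hc : ∀ a ∈ A, ∀ b ∈ A, a * b = b * a)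
    (hP : Offends f A) :
    ∃ B ≤ A, Nat.card ↥A * Nat.card ↥(fixed f A) ≤ Nat.card ↥B * Nat.card ↥(fixed f B) ∧
      (∀ b ∈ B, ∀ a ∈ A, ∀ v, f b (f a v - v) = f a v - v) ∧
      fixed f B ≤ Submodule.span (ZMod p) {x | ∃ a ∈ A, ∃ v, f a v - v = x} ⊔ fixed f A := by
  classical
  cases nonempty_fintype V
  let X : Set V → Submodule (ZMod p) V := fun S =>
    Submodule.span (ZMod p) {x | ∃ a ∈ A, ∃ v ∈ S, f a v - v = x} ⊔ fixed f A
  have hmono : ∀ S T : Set V, S ⊆ T → X S ≤ X T := by
    intro S T h
    refine sup_le_sup_right (Submodule.span_mono ?_) _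
    rintro x ⟨a, ha, v, hv, e⟩
    exact ⟨a, ha, v, h hv, e⟩
  have key : ∀ S : Finset V, ∃ B ≤ A,
      Nat.card ↥A * Nat.card ↥(fixed f A) ≤ Nat.card ↥B * Nat.card ↥(X (S : Set V)) ∧
      X (S : Set V) ≤ fixed f B := by
    intro S
    induction S using Finset.induction with
    | empty =>
      refine ⟨A, le_rfl, Nat.mul_le_mul_left _ ?_, ?_⟩
      · exact Nat.card_mono (Set.toFinite _) (SetLike.coe_subset_coe.2 le_sup_right)
      · exact sup_le (Submodule.span_le.2 fun x ⟨a, _, v, hv, _⟩ => absurd hv (by simp)) le_rfl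
    | insert v S hvS ih =>
      obtain ⟨B₂, hB₂A, hB₂, hX₂⟩ := ih
      let Bv : Subgroup G := A ⊓
        { carrier := {g | ∀ a ∈ A, f g (f a v - v) = f a v - v}
          one_mem' := by simp
          mul_mem' := fun {g h} hg hh a ha => by
            rw [map_mul, Module.End.mul_apply, hh a ha, hg a ha]
          inv_mem' := fun {g} hg a ha => by
            conv_lhs => rw [← hg a ha]
            rw [← Module.End.mul_apply, ← map_mul, inv_mul_cancel, map_one, Module.End.one_apply] }
      have hBvX : X {v} ≤ fixed f Bv := by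
        refine sup_le (Submodule.span_le.2 ?_) fun w hw b hb => hw b hb.1
        rintro x ⟨a, ha, w, hw, rfl⟩ b hb
        rw [Set.mem_singleton_iff.1 hw]
        exact hb.2 a ha
      have hBv : Nat.card ↥A * Nat.card ↥(fixed f A) ≤ Nat.card ↥Bv * Nat.card ↥(X {v}) := by
        let Q := ↥A ⧸ Bv.subgroupOf A
        have hQ : Nat.card ↥A = Nat.card Q * Nat.card ↥Bv := by
          rw [Subgroup.card_eq_card_quotient_mul_card_subgroup (Bv.subgroupOf A),
            Nat.card_congr (Subgroup.subgroupOfEquivOfLe (show Bv ≤ A from inf_le_left)).toEquiv]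
        have hin : Nat.card Q * Nat.card ↥(fixed f A) ≤ Nat.card ↥(X {v}) := by
          rw [← Nat.card_prod]
          let φ : Q × ↥(fixed f A) → ↥(X {v}) := fun q => ⟨(f (q.1.out : G) v - v) + q.2,
            add_mem (Submodule.mem_sup_left (Submodule.subset_span
              ⟨_, q.1.out.2, v, Set.mem_singleton v, rfl⟩)) (Submodule.mem_sup_right q.2.2)⟩
          refine Nat.card_le_card_of_injective φ ?_
          intro q r hqr
          have h := congrArg Subtype.val hqr
          change (f (q.1.out : G) v - v) + (q.2 : V) = (f (r.1.out : G) v - v) + r.2 at h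
          have hd : f (q.1.out : G) v - f (r.1.out : G) v ∈ fixed f A := by
            have e : f (q.1.out : G) v - f (r.1.out : G) v = (r.2 : V) - q.2 := by
              rw [sub_eq_sub_iff_add_eq_add]
              rw [← sub_eq_zero] at h ⊢
              rw [← h]; abel
            rw [e]; exact sub_mem r.2.2 q.2.2
          have h1 : q.1 = r.1 := by
            rw [← QuotientGroup.out_eq' q.1, ← QuotientGroup.out_eq' r.1]
            apply QuotientGroup.eq.2
            rw [Subgroup.mem_subgroupOf]
            push_cast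
            refine ⟨A.mul_mem (A.inv_mem q.1.out.2) r.1.out.2, fun c hcA => ?_⟩
            have e := hd c hcA
            rw [map_sub, ← Module.End.mul_apply, ← Module.End.mul_apply, ← map_mul, ← map_mul,
              hc c hcA _ q.1.out.2, hc c hcA _ r.1.out.2] at e
            rw [map_mul, map_mul, Module.End.mul_apply, Module.End.mul_apply] at e
            rw [map_mul, Module.End.mul_apply]
            have e2 : f (q.1.out : G) (f c v - v) = f (r.1.out : G) (f c v - v) := by
              rw [map_sub, map_sub, sub_eq_sub_iff_sub_eq_sub]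
              exact e
            rw [← e2, ← Module.End.mul_apply, ← map_mul, inv_mul_cancel, map_one,
              Module.End.one_apply]
          rw [h1, add_right_inj] at h
          exact Prod.ext h1 (Subtype.ext h)
        calc Nat.card ↥A * Nat.card ↥(fixed f A)
            = Nat.card ↥Bv * (Nat.card Q * Nat.card ↥(fixed f A)) := by rw [hQ]; ring
          _ ≤ _ := Nat.mul_le_mul_left _ hin
      refine ⟨Bv ⊓ B₂, inf_le_right.trans hB₂A, ?_, ?_⟩
      · have h1 := card_mul_card_le Bv B₂
        have h2 := card_mul_card_le' (X {v}) (X (S : Set V))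
        have h3 : Nat.card ↥(Bv ⊔ B₂) * Nat.card ↥(X {v} ⊓ X (S : Set V)) ≤
            Nat.card ↥A * Nat.card ↥(fixed f A) := by
          refine le_trans (Nat.mul_le_mul_left _ ?_) (hP _ (sup_le inf_le_left hB₂A))
          refine Nat.card_mono (Set.toFinite _) (SetLike.coe_subset_coe.2 ?_)
          intro w hw b hb
          have : Bv ⊔ B₂ ≤
              { carrier := {g | f g w = w}
                one_mem' := by simp
                mul_mem' := fun {g h} hg hh => by
                  show f (g * h) w = w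
                  rw [map_mul, Module.End.mul_apply, hh, hg]
                inv_mem' := fun {g} hg => by
                  show f g⁻¹ w = w
                  conv_lhs => rw [← hg]
                  rw [← Module.End.mul_apply, ← map_mul, inv_mul_cancel, map_one,
                    Module.End.one_apply] } :=
            sup_le (fun g hg => hBvX hw.1 g hg) (fun g hg => hX₂ hw.2 g hg)
          exact this hb
        have hle : X {v} ⊔ X (S : Set V) ≤ X ((insert v S : Finset V) : Set V) :=
          sup_le (hmono _ _ (by simp)) (hmono _ _ (by simp))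
        have h4 : Nat.card ↥(X {v} ⊔ X (S : Set V)) ≤
            Nat.card ↥(X ((insert v S : Finset V) : Set V)) :=
          Nat.card_mono (Set.toFinite _) (SetLike.coe_subset_coe.2 hle)
        set a := Nat.card ↥A * Nat.card ↥(fixed f A)
        have hapos : 0 < a := Nat.mul_pos Nat.card_pos Nat.card_pos
        refine Nat.le_of_mul_le_mul_right ?_ hapos
        calc a * a ≤ (Nat.card ↥Bv * Nat.card ↥(X {v})) *
              (Nat.card ↥B₂ * Nat.card ↥(X (S : Set V))) := Nat.mul_le_mul hBv hB₂
          _ = (Nat.card ↥Bv * Nat.card ↥B₂) * (Nat.card ↥(X {v}) * Nat.card ↥(X (S : Set V))) := by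
            ring
          _ ≤ _ := Nat.mul_le_mul h1 h2
          _ = (Nat.card ↥(Bv ⊓ B₂) * Nat.card ↥(X {v} ⊔ X (S : Set V))) *
              (Nat.card ↥(Bv ⊔ B₂) * Nat.card ↥(X {v} ⊓ X (S : Set V))) := by ring
          _ ≤ _ := Nat.mul_le_mul (Nat.mul_le_mul_left _ h4) h3
      · refine sup_le (Submodule.span_le.2 ?_) fun w hw b hb => hw b (hB₂A hb.2)
        rintro x ⟨a, ha, w, hw, rfl⟩ b hb
        rw [Finset.coe_insert, Set.mem_insert_iff] at hw
        rcases hw with rfl | hw
        · exact hb.1.2 a ha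
        · exact hX₂ (Submodule.mem_sup_left (Submodule.subset_span ⟨a, ha, w, hw, rfl⟩)) b hb.2
  obtain ⟨B, hBA, hB, hX⟩ := key Finset.univ
  refine ⟨B, hBA, hB.trans (Nat.mul_le_mul_left _
    (Nat.card_mono (Set.toFinite _) (SetLike.coe_subset_coe.2 hX))), fun b hb a ha v =>
      hX (Submodule.mem_sup_left (Submodule.subset_span ⟨a, ha, v, by simp, rfl⟩)) b hb, ?_⟩
  have hcard : Nat.card ↥(fixed f B) ≤ Nat.card ↥(X ((Finset.univ : Finset V) : Set V)) :=
    Nat.le_of_mul_le_mul_left ((hP B hBA).trans hB) Nat.card_pos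
  have heq : X ((Finset.univ : Finset V) : Set V) = fixed f B :=
    SetLike.coe_injective (Set.eq_of_subset_of_ncard_le hX
      (by rwa [← Nat.card_coe_set_eq, ← Nat.card_coe_set_eq]) (Set.toFinite _))
  rw [← heq]
  refine sup_le_sup_right (Submodule.span_mono ?_) _
  rintro x ⟨a, ha, v, _, e⟩
  exact ⟨a, ha, v, e⟩

/-- If everything is in `[V, A] + C_V(A)` then `A` acts trivially. -/
theorem eq_one_of_span_eq_top [Fact p.Prime] [Finite G] {A : Subgroup G}
    (hc : ∀ a ∈ A, ∀ b ∈ A, a * b = b * a) (he : ∀ a ∈ A, a ^ p = 1)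
    (h : Submodule.span (ZMod p) {x | ∃ a ∈ A, ∃ v, f a v - v = x} ⊔ fixed f A = ⊤) :
    ∀ a ∈ A, f a = 1 := by
  classical
  set X := Submodule.span (ZMod p) {x | ∃ a ∈ A, ∃ v, f a v - v = x} with hX
  have hmem : ∀ a ∈ A, ∀ v, f a v - v ∈ X := fun a ha v =>
    Submodule.subset_span ⟨a, ha, v, rfl⟩
  have hinv : ∀ a ∈ A, ∀ x ∈ X, (f a - 1) x ∈ X := fun a ha x _ => by
    simpa using hmem a ha x
  have key : ∀ T : Finset G, (∀ a ∈ T, a ∈ A) → X ≤ T.sup (fun a => X.map (f a - 1)) → X = ⊥ := by
    intro T
    induction T using Finset.induction with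
    | empty => intro _ h; simpa using h
    | insert b T hbT ih =>
      intro hT hle
      apply ih fun a ha => hT a (Finset.mem_insert_of_mem ha)
      set D := f b - 1 with hD
      set S := T.sup (fun a => X.map (f a - 1)) with hS
      have hbA : b ∈ A := hT b (Finset.mem_insert_self b T)
      have hSmap : S.map D ≤ S := by
        rw [Submodule.map_le_iff_le_comap, hS, Finset.sup_le_iff]
        intro a ha
        rw [Submodule.map_le_iff_le_comap]
        intro x hx
        show D ((f a - 1) x) ∈ T.sup (fun a => X.map (f a - 1))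
        refine SetLike.le_def.1 (Finset.le_sup (f := fun a => X.map (f a - 1)) ha)
          (Submodule.mem_map.2 ⟨D x, hinv b hbA x hx, ?_⟩)
        have hab := hc a (hT a (Finset.mem_insert_of_mem ha)) b hbA
        have e : (f a - 1) * D = D * (f a - 1) :=
          ((Commute.sub_right (map_comm hab : f a * f b = f b * f a) (Commute.one_right _)).sub_left
            (Commute.one_left _))
        exact LinearMap.congr_fun e x
      rw [Finset.sup_insert] at hle
      have hit : ∀ n, X ≤ X.map (D ^ n) ⊔ S := by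
        intro n
        induction n with
        | zero => simp [Module.End.one_eq_id]
        | succ n ihn =>
          refine ihn.trans (sup_le ?_ le_sup_right)
          refine (Submodule.map_mono hle).trans ?_
          rw [Submodule.map_sup, ← Submodule.map_comp, ← Module.End.mul_eq_comp, ← pow_succ]
          refine sup_le le_sup_left (le_sup_of_le_right ?_)
          clear ihn hle
          induction n with
          | zero => exact le_of_eq (by rw [pow_zero]; exact Submodule.map_id _)
          | succ n ihn =>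
            rw [pow_succ', Module.End.mul_eq_comp, Submodule.map_comp]
            exact (Submodule.map_mono ihn).trans hSmap
      have := hit p
      rwa [hD, sub_one_pow (he b hbA), Submodule.map_zero, bot_sup_eq] at this
  cases nonempty_fintype G
  have hX0 : X = ⊥ := by
    refine key (Finset.univ.filter (· ∈ A)) (fun a ha => (Finset.mem_filter.1 ha).2) ?_
    conv_lhs => rw [hX]
    rw [Submodule.span_le]
    rintro x ⟨a, ha, v, rfl⟩
    obtain ⟨u, hu, w, hw, rfl⟩ := Submodule.mem_sup.1 (h ▸ Submodule.mem_top : v ∈ X ⊔ fixed f A)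
    have e : f a (u + w) - (u + w) = (f a - 1) u := by
      rw [map_add, hw a ha, LinearMap.sub_apply, Module.End.one_apply]; abel
    rw [e]
    exact SetLike.le_def.1 (Finset.le_sup (f := fun a => X.map (f a - 1))
      (Finset.mem_filter.2 ⟨Finset.mem_univ a, ha⟩)) (Submodule.mem_map.2 ⟨u, hu, rfl⟩)
  intro a ha
  apply LinearMap.ext
  intro v
  have := hmem a ha v
  rw [hX0, Submodule.mem_bot, sub_eq_zero] at this
  simpa using this

end Cfsg.Lib.Offender
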