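import Mathlib

/-!
Finite rings with an involution whose traces and norms are central, in characteristic two, and a
group of automorphisms: the counting bound `|R| > 2 |P| |Fix|`.
-/

set_option autoImplicit false

namespace Cfsg.Lib.Offender.Quat

variable {R : Type*} [Ring R]

/-- An anti-automorphism of order two with central traces and norms, in characteristic two. -/
structure Inv₂ (ι : R →+ R) : Prop where
  char : ∀ r : R, r + r = 0
  invol : ∀ r, ι (ι r) = r
  anti : ∀ r s, ι (r * s) = ι s * ι r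
  trace : ∀ r s, (r + ι r) * s = s * (r + ι r)
  norm : ∀ r s, (r * ι r) * s = s * (r * ι r)

variable {ι : R →+ R}

theorem Inv₂.map_one (h : Inv₂ ι) : ι 1 = 1 := by
  have := h.anti (ι 1) 1
  rw [mul_one, h.invol, mul_one] at this
  exact this.symm

theorem Inv₂.eq_add (h : Inv₂ ι) {r s : R} : r = s ↔ r + s = 0 := by
  constructor
  · rintro rfl; exact h.char r
  · intro e
    rw [← add_zero r, ← h.char s, ← add_assoc, e, zero_add]

theorem Inv₂.two (h : Inv₂ ι) (r : R) : -r = r :=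
  (eq_neg_of_add_eq_zero_left (h.char r)).symm

/-- Central elements fixed by the involution. -/
def E (h : Inv₂ ι) : Subring R where
  carrier := {r | ι r = r ∧ ∀ s, r * s = s * r}
  one_mem' := ⟨h.map_one, fun s => by rw [one_mul, mul_one]⟩
  zero_mem' := ⟨map_zero _, fun s => by rw [zero_mul, mul_zero]⟩
  add_mem' {a b} ha hb := ⟨by rw [map_add, ha.1, hb.1], fun s => by
    rw [add_mul, mul_add, ha.2, hb.2]⟩
  neg_mem' {a} ha := ⟨by rw [map_neg, ha.1], fun s => by rw [neg_mul, mul_neg, ha.2]⟩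
  mul_mem' {a b} ha hb := ⟨by rw [h.anti, ha.1, hb.1, hb.2], fun s => by
    rw [mul_assoc, hb.2, ← mul_assoc, ha.2, mul_assoc]⟩

variable (h : Inv₂ ι)

include h in
theorem trace_mem (r : R) : r + ι r ∈ E h :=
  ⟨by rw [map_add, h.invol, add_comm], h.trace r⟩

include h in
theorem norm_mem (r : R) : r * ι r ∈ E h :=
  ⟨by rw [h.anti, h.invol], h.norm r⟩

/-- The automorphisms are compatible with the involution. -/
def Compat (ι : R →+ R) (P : Subgroup (RingAut R)) : Prop := ∀ g ∈ P, ∀ r, g (ι r) = ι (g r)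

theorem map_mem_E {P : Subgroup (RingAut R)} (hP : Compat ι P) {g : RingAut R} (hg : g ∈ P)
    {r : R} (hr : r ∈ E h) : g r ∈ E h := by
  refine ⟨by rw [← hP g hg, hr.1], fun s => ?_⟩
  obtain ⟨t, rfl⟩ := g.surjective s
  rw [← map_mul, ← map_mul, hr.2]

/-- The common fixed points of the involution and the automorphisms. -/
def Fix (ι : R →+ R) (P : Subgroup (RingAut R)) : AddSubgroup R where
  carrier := {r | ι r = r ∧ ∀ g ∈ P, g r = r}
  zero_mem' := ⟨map_zero _, fun g _ => _root_.map_zero g⟩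
  add_mem' {a b} ha hb := ⟨by rw [map_add, ha.1, hb.1], fun g hg => by
    rw [_root_.map_add, ha.2 g hg, hb.2 g hg]⟩
  neg_mem' {a} ha := ⟨by rw [map_neg, ha.1], fun g hg => by rw [_root_.map_neg, ha.2 g hg]⟩

theorem two_mul_card_le {M : Type*} [AddGroup M] [Finite M] {H L : AddSubgroup M} (hHL : H ≤ L)
    {z : M} (hzL : z ∈ L) (hzH : z ∉ H) : 2 * Nat.card ↥H ≤ Nat.card ↥L := by
  have hbool : Nat.card Bool = 2 :=
    Nat.card_eq_two_iff.2 ⟨true, false, by simp, by ext b; cases b <;> simp⟩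
  rw [← hbool, ← Nat.card_prod]
  refine Nat.card_le_card_of_injective (fun x : Bool × ↥H =>
    if x.1 then (⟨z + x.2, L.add_mem hzL (hHL x.2.2)⟩ : ↥L) else ⟨(x.2 : M), hHL x.2.2⟩) ?_
  rintro ⟨b, u⟩ ⟨c, v⟩ e
  cases b <;> cases c <;> simp at e
  · simp [e]
  · exact absurd (by
      have : z = (u : M) + -(v : M) := by rw [e, add_neg_cancel_right]
      rw [this]; exact H.add_mem u.2 (H.neg_mem v.2)) hzH
  · exact absurd (by
      have : z = (v : M) + -(u : M) := by rw [← e, add_neg_cancel_right]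
      rw [this]; exact H.add_mem v.2 (H.neg_mem u.2)) hzH
  · simp [e]

theorem even_card {M : Type*} [AddGroup M] [Finite M] (hM : ∀ x : M, x + x = 0) {x : M}
    (hx : x ≠ 0) : 2 ∣ Nat.card M := by
  have : addOrderOf x = 2 := addOrderOf_eq_prime (by rw [two_nsmul]; exact hM x) hx
  rw [← this]; exact addOrderOf_dvd_natCard x

/-- A nonzero element fixed by a group of automorphisms of exponent two, in an invariant set of
even size containing zero. -/
theorem exists_fixed [Finite R] {P : Subgroup (RingAut R)} (hP : ∀ g ∈ P, g * g = 1)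
    {S : Set R} (hS : ∀ g ∈ P, ∀ r ∈ S, g r ∈ S) (h0 : (0 : R) ∈ S) (hcard : 2 ∣ Nat.card ↥S) :
    ∃ r ∈ S, r ≠ 0 ∧ ∀ g ∈ P, g r = r := by
  let act : MulAction ↥P ↥S :=
    { smul := fun g r => ⟨(g : RingAut R) r, hS g g.2 r r.2⟩
      one_smul := fun r => Subtype.ext rfl
      mul_smul := fun g g' r => Subtype.ext rfl }
  have := Fact.mk Nat.prime_two
  have hp : IsPGroup 2 ↥P := fun g => ⟨1, by
    rw [pow_one, pow_two]; exact Subtype.ext (hP g g.2)⟩
  obtain ⟨b, hb, hb0⟩ := hp.exists_fixed_point_of_prime_dvd_card_of_fixed_point ↥S hcard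
    (a := ⟨0, h0⟩) (fun g => Subtype.ext (_root_.map_zero (g : RingAut R)))
  exact ⟨b, b.2, fun e => hb0 (Subtype.ext e.symm), fun g hg =>
    congrArg Subtype.val (hb ⟨g, hg⟩)⟩

/-- A frame of matrix units attached to a square-zero fixed element. -/
structure Frame (ι : R →+ R) (e y ν : R) : Prop where
  ιν : ι ν = ν
  νν : ν * ν = 0
  ιe : ι e = 1 + e
  ee : e * e = e
  eν : e * ν = 0
  νe : ν * e = ν
  yν : y * ν = e
  νy : ν * y = 1 + e
  ey : e * y = y
  ye : y * e = 0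
  ιy : ι y = y
  e0 : e ≠ 0

include h in
theorem exists_frame (hF : ∀ r ∈ E h, r ≠ 0 → ∃ r' ∈ E h, r * r' = 1)
    (hJ : ∀ r, r ≠ 0 → ∃ s, r * s + ι (r * s) ≠ 0) {ν : R} (hν : ν ≠ 0) (h1 : ι ν = ν)
    (h2 : ν * ν = 0) : ∃ e y, Frame ι e y ν := by
  obtain ⟨r₀, hr₀⟩ := hJ ν hν
  obtain ⟨u, hu, hu'⟩ := hF _ (trace_mem h _) hr₀
  set r := u * r₀ with hr
  have hT : ν * r + ι (ν * r) = 1 := by
    rw [hr, ← mul_assoc, ← hu.2, mul_assoc, h.anti u, hu.1, ← hu.2, ← mul_add, hu.2]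
    exact hu'
  have hT' : ν * r + ι r * ν = 1 := by
    rw [h.anti, h1] at hT; exact hT
  -- the trace is symmetric
  have hTr : r * ν + ι (r * ν) = 1 := by
    rw [h.anti, h1]
    set t := r + ι r with ht
    have htν : t * ν = ν * t := h.trace r ν
    have e1 : r * ν + ν * ι r + (ν * r + ι r * ν) = 0 := by
      have : r * ν + ν * ι r + (ν * r + ι r * ν) = t * ν + ν * t := by rw [ht]; noncomm_ring
      rw [this, htν, h.char]
    rw [hT'] at e1
    exact h.eq_add.2 e1
  set e := r * ν with he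
  have hιe : ι e = 1 + e := by
    rw [h.eq_add, add_comm 1 e, ← add_assoc, add_comm (ι e) e, hTr, h.char]
  have hνν' : ∀ z, z * ν * ν = 0 := fun z => by rw [mul_assoc, h2, mul_zero]
  have hee : e * e = e := by
    have h0 : e * ι e = 0 := by rw [he, h.anti, h1, ← mul_assoc, hνν', zero_mul]
    rw [hιe, mul_add, mul_one] at h0
    exact (h.eq_add.2 h0).symm
  have hνe : ν * e = ν := by
    have hν' : ν * ι e = 0 := by
      rw [he, h.anti, h1, ← mul_assoc, h2, zero_mul]
    rw [hιe, mul_add, mul_one] at hν'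
    exact (h.eq_add.2 hν').symm
  have heν : e * ν = 0 := hνν' r
  have he' : (1 + e) * e = 0 := by rw [add_mul, one_mul, hee, h.char]
  have he'' : (1 + e) * ν = ν := by rw [add_mul, one_mul, heν, add_zero]
  have he''' : (1 + e) * (1 + e) = 1 + e := by
    rw [mul_add, mul_one, he', add_zero]
  have hνe' : ν * (1 + e) = 0 := by rw [mul_add, mul_one, hνe, h.char]
  refine ⟨e, e * r * (1 + e), h1, h2, hιe, hee, heν, hνe, ?_, ?_, ?_, ?_, ?_, ?_⟩
  · rw [mul_assoc, he'', mul_assoc, ← he, hee]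
  · have hc : r + ι r ∈ E h := trace_mem h r
    have e2 : ν * r = 1 + e + ν * (r + ι r) := by
      have e3 : ν * ι r = 1 + e :=
        ((h.anti r ν).trans (congrArg (· * ι r) h1)).symm.trans hιe
      rw [mul_add, e3, add_comm (ν * r), ← add_assoc, h.char, zero_add]
    rw [← mul_assoc, ← mul_assoc, hνe, e2, add_mul, he''', mul_assoc, hc.2, ← mul_assoc, hνe',
      zero_mul, add_zero]
  · rw [← mul_assoc, ← mul_assoc, hee]
  · rw [mul_assoc, he', mul_zero]
  · have hιb : ι (1 + e) = e := by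
      rw [map_add, h.map_one, hιe, ← add_assoc, h.char, zero_add]
    have e3 : ι r = r + (r + ι r) := by rw [← add_assoc, h.char, zero_add]
    have e4 : e * (1 + e) = 0 := by rw [mul_add, mul_one, hee, h.char]
    calc ι (e * r * (1 + e)) = e * (ι r * (1 + e)) := by rw [h.anti (e * r), hιb, h.anti e r, hιe]
      _ = e * r * (1 + e) + e * ((r + ι r) * (1 + e)) := by
        conv_lhs => rw [e3]
        rw [add_mul, mul_add e, ← mul_assoc e r]
      _ = e * r * (1 + e) := by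
        rw [← mul_assoc e (r + ι r), ← (trace_mem h r).2 e, mul_assoc (r + ι r), e4, mul_zero,
          add_zero]
  · intro e0
    rw [e0, add_zero] at hιe
    rw [map_zero] at hιe
    apply hν
    rw [← mul_one ν, ← hιe, mul_zero]

variable {h} {e y ν : R}

theorem Frame.span (hf : Frame ι e y ν) (h : Inv₂ ι) (s : R) :
    ∃ α ∈ E h, ∃ β ∈ E h, ∃ γ ∈ E h, ∃ δ ∈ E h,
      s = α * e + β * (1 + e) + γ * y + δ * ν := by
  obtain ⟨b, hb⟩ : ∃ b, b = 1 + e := ⟨_, rfl⟩
  rw [← hb]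
  have hιb : ι b = e := by rw [hb, map_add, h.map_one, hf.ιe, ← add_assoc, h.char, zero_add]
  have hbe : b * e = 0 := by rw [hb, add_mul, one_mul, hf.ee, h.char]
  have heb : e * b = 0 := by rw [hb, mul_add, mul_one, hf.ee, h.char]
  have hbb : b * b = b := by rw [hb, mul_add, mul_one, ← hb, hbe, add_zero]
  have hbν : b * ν = ν := by rw [hb, add_mul, one_mul, hf.eν, add_zero]
  have hyb : y * b = y := by rw [hb, mul_add, mul_one, hf.ye, add_zero]
  have corner_e : ∀ z, ∃ t ∈ E h, e * z * e = t * e := by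
    intro z
    refine ⟨_, trace_mem h (e * z * e), ?_⟩
    rw [h.anti, h.anti, hf.ιe, ← hb, add_mul, ← mul_assoc b, mul_assoc (b * ι z) b e, hbe,
      mul_zero, add_zero, mul_assoc _ e e, hf.ee]
  have corner_b : ∀ z, ∃ t ∈ E h, b * z * b = t * b := by
    intro z
    refine ⟨_, trace_mem h (b * z * b), ?_⟩
    rw [h.anti, h.anti, hιb, add_mul, ← mul_assoc e, mul_assoc (e * ι z) e b, heb, mul_zero,
      add_zero, mul_assoc _ b b, hbb]
  obtain ⟨α, hα, hαe⟩ := corner_e s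
  obtain ⟨β, hβ, hβe⟩ := corner_b s
  obtain ⟨γ, hγ, hγe⟩ := corner_e (s * ν)
  obtain ⟨δ, hδ, hδe⟩ := corner_b (s * y)
  refine ⟨α, hα, β, hβ, γ, hγ, δ, hδ, ?_⟩
  have h3 : e * s * b = γ * y := by
    calc e * s * b = e * s * (ν * y) := by rw [hf.νy, ← hb]
      _ = e * s * ((ν * e) * y) := by rw [hf.νe]
      _ = (e * (s * ν) * e) * y := by noncomm_ring
      _ = γ * y := by rw [hγe, mul_assoc, hf.ey]
  have h4 : b * s * e = δ * ν := by
    calc b * s * e = b * s * (y * b * ν) := by rw [hyb, hf.yν]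
      _ = (b * (s * y) * b) * ν := by noncomm_ring
      _ = δ * ν := by rw [hδe, mul_assoc, hbν]
  have h1 : e + b = 1 := by rw [hb, add_left_comm, h.char, add_zero]
  calc s = (e + b) * s * (e + b) := by rw [h1, one_mul, mul_one]
    _ = e * s * e + b * s * b + e * s * b + b * s * e := by noncomm_ring
    _ = _ := by rw [hαe, hβe, h3, h4]

theorem Frame.indep (hf : Frame ι e y ν) (h : Inv₂ ι)
    (hF : ∀ r ∈ E h, r ≠ 0 → ∃ r' ∈ E h, r * r' = 1) {α β γ δ : R} (hα : α ∈ E h) (hβ : β ∈ E h)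
    (hγ : γ ∈ E h) (hδ : δ ∈ E h) (h0 : α * e + β * (1 + e) + γ * y + δ * ν = 0) :
    α = 0 ∧ β = 0 ∧ γ = 0 ∧ δ = 0 := by
  have cancel : ∀ t ∈ E h, ∀ z : R, z ≠ 0 → t * z = 0 → t = 0 := by
    intro t ht z hz e
    by_contra ht0
    obtain ⟨t', ht', htt⟩ := hF t ht ht0
    apply hz
    rw [← one_mul z, ← htt, ht.2, mul_assoc, e, mul_zero]
  obtain ⟨b, hb⟩ : ∃ b, b = 1 + e := ⟨_, rfl⟩
  rw [← hb] at h0
  have hbe : b * e = 0 := by rw [hb, add_mul, one_mul, hf.ee, h.char]
  have heb : e * b = 0 := by rw [hb, mul_add, mul_one, hf.ee, h.char]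
  have hbb : b * b = b := by rw [hb, mul_add, mul_one, ← hb, hbe, add_zero]
  have hν0 : ν ≠ 0 := fun e0 => hf.e0 (by rw [← hf.yν, e0, mul_zero])
  have hy0 : y ≠ 0 := fun e0 => hf.e0 (by rw [← hf.yν, e0, zero_mul])
  have hb0 : b ≠ 0 := fun e0 => hf.e0 (by
    calc e = e * e := hf.ee.symm
      _ = y * ν * (y * ν) := by rw [hf.yν]
      _ = y * (ν * y) * ν := by noncomm_ring
      _ = 0 := by rw [hf.νy, ← hb, e0, mul_zero, zero_mul])
  have l : ∀ t ∈ E h, ∀ z : R, e * (t * z) = t * (e * z) := fun t ht z => by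
    rw [← mul_assoc, ← ht.2, mul_assoc]
  have l' : ∀ t ∈ E h, ∀ z : R, b * (t * z) = t * (b * z) := fun t ht z => by
    rw [← mul_assoc, ← ht.2, mul_assoc]
  have hey : e * (y * e) = 0 := by rw [hf.ye, mul_zero]
  have hby : b * y = 0 := by rw [← hf.ey, ← mul_assoc, hbe, zero_mul]
  have hbν : b * ν = ν := by rw [hb, add_mul, one_mul, hf.eν, add_zero]
  have hνb : ν * b = 0 := by rw [hb, mul_add, mul_one, hf.νe, h.char]
  have hyb : y * b = y := by rw [hb, mul_add, mul_one, hf.ye, add_zero]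
  have he := congrArg (e * ·) h0
  have hb' := congrArg (b * ·) h0
  simp only [mul_add, mul_zero, l α hα, l β hβ, l γ hγ, l δ hδ, l' α hα, l' β hβ, l' γ hγ,
    l' δ hδ, hf.ee, heb, hf.ey, hf.eν, hbe, hbb, hby, hbν, add_zero, zero_add] at he hb'
  -- `α e + γ y = 0` and `β b + δ ν = 0`
  have hee' := congrArg (· * e) he
  have hbb' := congrArg (· * b) hb'
  simp only [add_mul, zero_mul, mul_assoc, hf.ee, hf.ye, hbb, hνb, mul_zero, add_zero] at hee' hbb'
  have hα0 := cancel α hα e hf.e0 hee'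
  have hβ0 := cancel β hβ b hb0 hbb'
  rw [hα0, zero_mul, zero_add] at he
  rw [hβ0, zero_mul, zero_add] at hb'
  exact ⟨hα0, hβ0, cancel γ hγ y hy0 he, cancel δ hδ ν hν0 hb'⟩

/-- The ring is impossible when its central fixed elements form a field with at least four
elements. -/
theorem field_false [Finite R] (h : Inv₂ ι) (hF : ∀ r ∈ E h, r ≠ 0 → ∃ r' ∈ E h, r * r' = 1)
    (hfour : ∃ r ∈ E h, r ≠ 0 ∧ r ≠ 1) (hJ : ∀ r, r ≠ 0 → ∃ s, r * s + ι (r * s) ≠ 0)
    (hnc : ∃ r s : R, r * s ≠ s * r) {P : Subgroup (RingAut R)} (hP : Compat ι P)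
    (hP2 : ∀ g ∈ P, g * g = 1)
    (hbound : Nat.card R ≤ 2 * Nat.card ↥P * Nat.card ↥(Fix ι P)) : False := by
  classical
  have : Finite (RingAut R) := Finite.of_injective (fun g : RingAut R => (g : R → R))
    DFunLike.coe_injective
  -- square roots
  have hdom : ∀ r ∈ E h, r * r = 0 → r = 0 := by
    intro r hr e
    by_contra hr0
    obtain ⟨r', hr', hrr⟩ := hF r hr hr0
    apply hr0
    rw [← mul_one r, ← hrr, ← mul_assoc, e, zero_mul]
  have hsq : ∀ r ∈ E h, ∃ t ∈ E h, t * t = r := by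
    have hinj : Function.Injective (fun t : ↥(E h) => t * t) := by
      intro t u e
      have e' : (t : R) * t = u * u := congrArg Subtype.val e
      refine Subtype.ext (h.eq_add.2 (hdom _ ((E h).add_mem t.2 u.2) ?_))
      rw [add_mul, mul_add, mul_add, t.2.2 u, e',
        show (u : R) * u + u * t + (u * t + u * u) = (u * u + u * u) + (u * t + u * t) by abel,
        h.char, h.char, add_zero]
    intro r hr
    obtain ⟨t, ht⟩ := Finite.injective_iff_surjective.1 hinj ⟨r, hr⟩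
    exact ⟨t, t.2, congrArg Subtype.val ht⟩
  have hν : ∃ ν, ν ≠ 0 ∧ ι ν = ν ∧ ν * ν = 0 := by
    by_contra hno
    push Not at hno
    have hfixE : ∀ r, ι r = r → r ∈ E h := by
      intro r hr
      obtain ⟨t, ht, htt⟩ := hsq (r * r) (by
        have := norm_mem h r; rwa [hr] at this)
      by_contra hrE
      refine hno (r + t) (fun e0 => hrE ((h.eq_add.2 e0) ▸ ht)) (by rw [map_add, hr, ht.1]) ?_
      rw [add_mul, mul_add, mul_add, ht.2 r, htt,
        show r * r + r * t + (r * t + r * r) = (r * r + r * r) + (r * t + r * t) by abel,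
        h.char, h.char, add_zero]
    obtain ⟨r, s, hrs⟩ := hnc
    apply hrs
    by_cases hr : r + ι r = 0
    · exact (hfixE r (h.eq_add.2 hr).symm).2 s
    obtain ⟨u, hu, huu⟩ := hF _ (trace_mem h r) hr
    have hts := trace_mem h s
    set c := (s + ι s) * u with hc
    have hcE : c ∈ E h := (E h).mul_mem hts hu
    have : s + c * r ∈ E h := by
      refine hfixE _ ?_
      rw [map_add, h.anti, hcE.1, ← hcE.2, h.eq_add]
      calc ι s + c * ι r + (s + c * r) = (s + ι s) + c * (r + ι r) := by rw [mul_add]; abel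
        _ = (s + ι s) + (s + ι s) * (u * (r + ι r)) := by rw [hc, mul_assoc]
        _ = 0 := by rw [hu.2, huu, mul_one, h.char]
    have e := this.2 r
    rw [add_mul, mul_add, ← mul_assoc r c r, ← hcE.2 r] at e
    exact (add_right_cancel e).symm
  obtain ⟨ν₀, hν₀, hν₀ι, hν₀s⟩ := hν
  -- coordinates
  set q := Nat.card ↥(E h) with hq
  have hqpos : 0 < q := Nat.card_pos
  have hq3 : 3 ≤ q := by
    obtain ⟨c, hc, hc0, hc1⟩ := hfour
    have h10 : (1 : R) ≠ 0 := fun e => hν₀ (by rw [← mul_one ν₀, e, mul_zero])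
    refine le_trans (le_of_eq (Nat.card_fin 3).symm) (Nat.card_le_card_of_injective
      ![(0 : ↥(E h)), 1, ⟨c, hc⟩] ?_)
    intro i j e
    fin_cases i <;> fin_cases j <;> simp [Subtype.ext_iff] at e ⊢ <;> first
      | exact h10 e | exact h10 e.symm | exact hc0 e | exact hc0 e.symm | exact hc1 e
      | exact hc1 e.symm
  have hqeven : 2 ∣ q := by
    refine even_card (fun x => Subtype.ext (h.char x)) (x := (1 : ↥(E h))) fun e => ?_
    have : (1 : R) = 0 := congrArg Subtype.val e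
    exact hν₀ (by rw [← mul_one ν₀, this, mul_zero])
  obtain ⟨e₀, y₀, hf₀⟩ := exists_frame h hF hJ hν₀ hν₀ι hν₀s
  -- star-fixed elements in coordinates
  have fixCoord : ∀ {e y ν : R}, Frame ι e y ν → ∀ r, ι r = r →
      ∃ α ∈ E h, ∃ γ ∈ E h, ∃ δ ∈ E h, r = α + γ * y + δ * ν := by
    intro e y ν hf r hr
    obtain ⟨α, hα, β, hβ, γ, hγ, δ, hδ, rfl⟩ := hf.span h r
    have hιb : ι (1 + e) = e := by rw [map_add, h.map_one, hf.ιe, ← add_assoc, h.char, zero_add]
    rw [map_add, map_add, map_add, h.anti, h.anti, h.anti, h.anti, hα.1, hβ.1, hγ.1, hδ.1,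
      hf.ιe, hιb, hf.ιy, hf.ιν, ← hα.2, ← hβ.2, ← hγ.2, ← hδ.2] at hr
    have hab : α = β := by
      have h1 : (α + β) * e + (β + α) * (1 + e) + 0 * y + 0 * ν = 0 := by
        rw [h.eq_add] at hr
        refine Eq.trans ?_ hr
        rw [zero_mul, zero_mul, add_zero, add_zero, add_mul, add_mul]
        rw [show α * (1 + e) + β * e + γ * y + δ * ν + (α * e + β * (1 + e) + γ * y + δ * ν) =
          α * e + β * e + (β * (1 + e) + α * (1 + e)) + (γ * y + γ * y) + (δ * ν + δ * ν) by abel,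
          h.char, h.char, add_zero, add_zero]
      exact h.eq_add.2 (hf.indep h hF ((E h).add_mem hα hβ) ((E h).add_mem hβ hα) (E h).zero_mem
        (E h).zero_mem h1).1
    refine ⟨α, hα, γ, hγ, δ, hδ, ?_⟩
    rw [← hab, mul_add, mul_one, show α * e + (α + α * e) = α + (α * e + α * e) by abel, h.char,
      add_zero]
  -- the size of the ring
  have hR : q ^ 4 ≤ Nat.card R := by
    have hc : Nat.card (↥(E h) × ↥(E h) × ↥(E h) × ↥(E h)) = q ^ 4 := by
      rw [Nat.card_prod, Nat.card_prod, Nat.card_prod]; ring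
    rw [← hc]
    refine Nat.card_le_card_of_injective
      (fun x => (x.1 : R) * e₀ + x.2.1 * (1 + e₀) + x.2.2.1 * y₀ + x.2.2.2 * ν₀) ?_
    rintro ⟨a, b, c, d⟩ ⟨a', b', c', d'⟩ e
    have e' : ((a : R) + a') * e₀ + ((b : R) + b') * (1 + e₀) + ((c : R) + c') * y₀ +
        ((d : R) + d') * ν₀ = 0 := by
      have := h.eq_add.1 e
      refine Eq.trans ?_ this
      simp only [add_mul]; abel
    obtain ⟨r1, r2, r3, r4⟩ := hf₀.indep h hF ((E h).add_mem a.2 a'.2) ((E h).add_mem b.2 b'.2)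
      ((E h).add_mem c.2 c'.2) ((E h).add_mem d.2 d'.2) e'
    rw [Subtype.ext (h.eq_add.2 r1), Subtype.ext (h.eq_add.2 r2), Subtype.ext (h.eq_add.2 r3),
      Subtype.ext (h.eq_add.2 r4)]
  -- a common fixed square-zero element
  have hsqr : ∀ {e y ν : R}, Frame ι e y ν → ∀ α ∈ E h, ∀ γ ∈ E h, ∀ δ ∈ E h,
      (α + γ * y + δ * ν) * (α + γ * y + δ * ν) = α * α + γ * δ := by
    intro e y ν hf α hα γ hγ δ hδ
    have hyy : y * y = 0 := by
      calc y * y = y * (e * y) := by rw [hf.ey]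
        _ = 0 := by rw [← mul_assoc, hf.ye, zero_mul]
    have m : ∀ {s t : R}, s ∈ E h → t ∈ E h → ∀ u v : R, (s * u) * (t * v) = (s * t) * (u * v) :=
      fun {s t} hs ht u v => by
        rw [mul_assoc, ← mul_assoc u t, ← ht.2 u]; noncomm_ring
    have cy : γ * y * α = α * (γ * y) := (hα.2 _).symm
    have cν : δ * ν * α = α * (δ * ν) := (hα.2 _).symm
    calc (α + γ * y + δ * ν) * (α + γ * y + δ * ν)
        = α * α + (α * (γ * y) + γ * y * α) + (α * (δ * ν) + δ * ν * α) +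
          (γ * y) * (γ * y) + (δ * ν) * (δ * ν) + ((γ * y) * (δ * ν) + (δ * ν) * (γ * y)) := by
          noncomm_ring
      _ = α * α + γ * δ := by
        rw [cy, cν, h.char, h.char, m hγ hγ, m hδ hδ, hyy, hf.νν, m hγ hδ, m hδ hγ, hδ.2 γ,
          ← mul_add, hf.yν, hf.νy, ← add_assoc e, add_comm e 1, add_assoc 1, h.char]
        simp
  let Nil : Set R := {r | ι r = r ∧ r * r = 0}
  have hNil : Nat.card ↥Nil = q * q := by
    rw [← Nat.card_prod]
    let root : ↥(E h) × ↥(E h) → R := fun x =>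
      (hsq _ ((E h).mul_mem x.1.2 x.2.2)).choose
    have hrE : ∀ x, root x ∈ E h := fun x => (hsq _ ((E h).mul_mem x.1.2 x.2.2)).choose_spec.1
    have hrr : ∀ x, root x * root x = x.1 * x.2 := fun x =>
      (hsq _ ((E h).mul_mem x.1.2 x.2.2)).choose_spec.2
    let g : ↥(E h) × ↥(E h) → ↥Nil := fun x => ⟨root x + x.1 * y₀ + x.2 * ν₀, by
      refine ⟨?_, ?_⟩
      · rw [map_add, map_add, h.anti, h.anti, (hrE x).1, x.1.2.1, x.2.2.1, hf₀.ιy, hf₀.ιν,
          ← x.1.2.2, ← x.2.2.2]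
      · rw [hsqr hf₀ _ (hrE x) _ x.1.2 _ x.2.2, hrr, h.char]⟩
    refine (Nat.card_congr (Equiv.ofBijective g ⟨?_, ?_⟩)).symm
    · intro x x' hxx
      have e1 : root x + x.1 * y₀ + x.2 * ν₀ = root x' + x'.1 * y₀ + x'.2 * ν₀ :=
        congrArg Subtype.val hxx
      have e2 : (root x + root x') * e₀ + (root x + root x') * (1 + e₀) +
          ((x.1 : R) + x'.1) * y₀ + ((x.2 : R) + x'.2) * ν₀ = 0 := by
        have := h.eq_add.1 e1
        rw [← mul_add, show e₀ + (1 + e₀) = (1 : R) by rw [add_left_comm, h.char, add_zero],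
          mul_one, add_mul, add_mul]
        refine Eq.trans ?_ this
        abel
      obtain ⟨-, -, r3, r4⟩ := hf₀.indep h hF ((E h).add_mem (hrE x) (hrE x'))
        ((E h).add_mem (hrE x) (hrE x')) ((E h).add_mem x.1.2 x'.1.2)
        ((E h).add_mem x.2.2 x'.2.2) e2
      exact Prod.ext (Subtype.ext (h.eq_add.2 r3)) (Subtype.ext (h.eq_add.2 r4))
    · rintro ⟨r, hr, hrr0⟩
      obtain ⟨α, hα, γ, hγ, δ, hδ, rfl⟩ := fixCoord hf₀ r hr
      rw [hsqr hf₀ α hα γ hγ δ hδ] at hrr0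
      refine ⟨(⟨γ, hγ⟩, ⟨δ, hδ⟩), Subtype.ext ?_⟩
      show root (⟨γ, hγ⟩, ⟨δ, hδ⟩) + γ * y₀ + δ * ν₀ = α + γ * y₀ + δ * ν₀
      congr 2
      refine h.eq_add.2 (hdom _ ((E h).add_mem (hrE _) hα) ?_)
      rw [add_mul, mul_add, mul_add, hrr, (hrE _).2 α]
      calc γ * δ + α * root _ + (α * root _ + α * α)
          = (α * α + γ * δ) + (α * root (⟨γ, hγ⟩, ⟨δ, hδ⟩) + α * root (⟨γ, hγ⟩, ⟨δ, hδ⟩)) := by
            abel
        _ = 0 := by rw [hrr0, h.char, add_zero]
  obtain ⟨ν, ⟨hνι, hνs⟩, hν0, hνfix⟩ := exists_fixed hP2 (S := Nil)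
    (fun g hg r hr => ⟨by rw [← hP g hg, hr.1], by rw [← map_mul, hr.2, _root_.map_zero]⟩)
    ⟨map_zero _, by rw [zero_mul]⟩ (hNil ▸ hqeven.mul_right q)
  obtain ⟨e, y, hf⟩ := exists_frame h hF hJ hν0 hνι hνs
  -- automorphisms fixing the field
  let P₀ : Subgroup (RingAut R) :=
    { carrier := {g | g ∈ P ∧ ∀ r ∈ E h, g r = r}
      one_mem' := ⟨P.one_mem, fun r _ => rfl⟩
      mul_mem' := fun {a b} ha hb => ⟨P.mul_mem ha.1 hb.1, fun r hr => by
        rw [RingAut.mul_apply, hb.2 r hr, ha.2 r hr]⟩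
      inv_mem' := fun {a} ha => ⟨P.inv_mem ha.1, fun r hr => by
        conv_lhs => rw [← ha.2 r hr]
        rw [← RingAut.mul_apply, inv_mul_cancel, RingAut.one_apply]⟩ }
  have hdelta : ∀ g ∈ P₀, ∃ δ ∈ E h, g e = e + δ * ν := by
    intro g hg
    obtain ⟨α, hα, β, hβ, γ, hγ, δ, hδ, he⟩ := hf.span h (g e)
    have c : ∀ t ∈ E h, ∀ z : R, ν * (t * z) = t * (ν * z) := fun t ht z => by
      rw [← mul_assoc, ← ht.2, mul_assoc]
    have h1 : ν * g e = ν := by
      conv_lhs => rw [← hνfix g hg.1, ← map_mul, hf.νe, hνfix g hg.1]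
    rw [he, mul_add, mul_add, mul_add, c α hα, c β hβ, c γ hγ, c δ hδ, mul_add ν 1 e, mul_one,
      hf.νe, h.char, hf.νy, hf.νν, mul_zero, mul_zero, add_zero, add_zero, h.eq_add] at h1
    have h1' : 0 * e + γ * (1 + e) + 0 * y + (α + 1) * ν = 0 := by
      refine Eq.trans ?_ h1
      rw [zero_mul, zero_mul, add_mul, one_mul]; abel
    obtain ⟨-, hg0, -, ha1⟩ := hf.indep h hF (E h).zero_mem hγ (E h).zero_mem
      ((E h).add_mem hα (E h).one_mem) h1'
    have h2 : g e * ν = 0 := by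
      rw [← hνfix g hg.1, ← map_mul, hf.eν, _root_.map_zero]
    rw [he, add_mul, add_mul, add_mul, mul_assoc, hf.eν, mul_zero, zero_add, mul_assoc β, add_mul,
      one_mul, hf.eν, add_zero, hg0, zero_mul, zero_mul, add_zero, mul_assoc δ, hf.νν, mul_zero,
      add_zero] at h2
    have hb0 : β = 0 := (hf.indep h hF (E h).zero_mem (E h).zero_mem (E h).zero_mem hβ
      (by simpa using h2)).2.2.2
    refine ⟨δ, hδ, ?_⟩
    rw [he, h.eq_add.2 ha1, hb0, hg0]; simp
  -- an automorphism fixing the field is determined by the image of `e`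
  have hdet : ∀ g ∈ P₀, ∀ g' ∈ P₀, g e = g' e → g = g' := by
    intro g hg g' hg' hee
    have hy : g y = g' y := by
      have k1 : g y = g y * (1 + g e) := by
        conv_lhs => rw [show y = y * (1 + e) by rw [mul_add, mul_one, hf.ye, add_zero]]
        rw [map_mul, _root_.map_add, _root_.map_one]
      have k2 : ν * g' y = 1 + g' e := by
        conv_lhs => rw [← hνfix g' hg'.1, ← map_mul, hf.νy, _root_.map_add, _root_.map_one]
      have k3 : g y * ν = g e := by
        conv_lhs => rw [← hνfix g hg.1, ← map_mul, hf.yν]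
      rw [k1, hee, ← k2, ← mul_assoc, k3, hee, ← map_mul, hf.ey]
    refine RingEquiv.ext fun r => ?_
    obtain ⟨α, hα, β, hβ, γ, hγ, δ, hδ, rfl⟩ := hf.span h r
    simp only [_root_.map_add, _root_.map_mul, _root_.map_one, hg.2 _ hα, hg.2 _ hβ, hg.2 _ hγ,
      hg.2 _ hδ, hg'.2 _ hα, hg'.2 _ hβ, hg'.2 _ hγ, hg'.2 _ hδ, hee, hy, hνfix g hg.1,
      hνfix g' hg'.1]
  have hP0 : Nat.card ↥P₀ ≤ q := by
    refine Nat.card_le_card_of_injective
      (fun g : ↥P₀ => (⟨(hdelta g g.2).choose, (hdelta g g.2).choose_spec.1⟩ : ↥(E h))) ?_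
    intro g g' e'
    refine Subtype.ext (hdet g g.2 g' g'.2 ?_)
    have e'' : (hdelta g g.2).choose = (hdelta g' g'.2).choose := congrArg Subtype.val e'
    rw [(hdelta g g.2).choose_spec.2, (hdelta g' g'.2).choose_spec.2, e'']
  -- fixed points
  let L₃ : AddSubgroup R :=
    { carrier := {r | ι r = r}
      zero_mem' := map_zero _
      add_mem' := fun {a b} (ha : ι a = a) (hb : ι b = b) => show ι (a + b) = a + b by
        rw [map_add, ha, hb]
      neg_mem' := fun {a} (ha : ι a = a) => show ι (-a) = -a by rw [map_neg, ha] }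
  let L₂ : AddSubgroup R :=
    { carrier := {r | ∃ α ∈ E h, ∃ δ ∈ E h, r = α + δ * ν}
      zero_mem' := ⟨0, (E h).zero_mem, 0, (E h).zero_mem, by simp⟩
      add_mem' := fun {a b} ⟨α, hα, δ, hδ, ea⟩ ⟨α', hα', δ', hδ', eb⟩ =>
        ⟨α + α', (E h).add_mem hα hα', δ + δ', (E h).add_mem hδ hδ', by
          rw [ea, eb, add_mul]; abel⟩
      neg_mem' := fun {a} ha => by rw [h.two]; exact ha }
  have hFix3 : Fix ι P ≤ L₃ := fun r hr => hr.1
  have hL3 : Nat.card ↥L₃ ≤ q ^ 3 := by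
    have hc : Nat.card (↥(E h) × ↥(E h) × ↥(E h)) = q ^ 3 := by
      rw [Nat.card_prod, Nat.card_prod]; ring
    rw [← hc]
    refine Nat.card_le_card_of_surjective (fun x => (⟨(x.1 : R) + x.2.1 * y + x.2.2 * ν, by
      show ι _ = _
      rw [map_add, map_add, h.anti, h.anti, x.1.2.1, x.2.1.2.1, x.2.2.2.1, hf.ιy, hf.ιν,
        ← x.2.1.2.2, ← x.2.2.2.2]⟩ : ↥L₃)) ?_
    rintro ⟨r, hr⟩
    obtain ⟨α, hα, γ, hγ, δ, hδ, rfl⟩ := fixCoord hf r hr
    exact ⟨(⟨α, hα⟩, ⟨γ, hγ⟩, ⟨δ, hδ⟩), rfl⟩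
  have hL2 : Nat.card ↥L₂ ≤ q ^ 2 := by
    rw [pow_two, ← Nat.card_prod]
    refine Nat.card_le_card_of_surjective (fun x => (⟨(x.1 : R) + x.2 * ν,
      ⟨x.1, x.1.2, x.2, x.2.2, rfl⟩⟩ : ↥L₂)) ?_
    rintro ⟨r, α, hα, δ, hδ, rfl⟩
    exact ⟨(⟨α, hα⟩, ⟨δ, hδ⟩), rfl⟩
  have hFix2 : (∃ g ∈ P₀, g ≠ 1) → Fix ι P ≤ L₂ := by
    rintro ⟨g, hg, hg1⟩ r hr
    obtain ⟨α, hα, γ, hγ, δ, hδ, rfl⟩ := fixCoord hf r hr.1
    by_cases hγ0 : γ = 0
    · exact ⟨α, hα, δ, hδ, by rw [hγ0, zero_mul, add_zero]⟩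
    exfalso
    have e1 := hr.2 g hg.1
    rw [_root_.map_add, _root_.map_add, map_mul, map_mul, hg.2 α hα, hg.2 γ hγ, hg.2 δ hδ,
      hνfix g hg.1, add_left_inj, add_right_inj] at e1
    obtain ⟨γ', hγ', hgg⟩ := hF γ hγ hγ0
    have e2 := congrArg (γ' * ·) e1
    rw [← mul_assoc, ← mul_assoc, hγ'.2 γ, hgg, one_mul, one_mul] at e2
    apply hg1
    refine hdet g hg 1 P₀.one_mem ?_
    rw [RingAut.one_apply]
    conv_lhs => rw [← hf.yν, map_mul, e2, hνfix g hg.1, hf.yν]
  by_cases hmoves : ∀ g ∈ P, ∀ r ∈ E h, g r = r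
  · -- the field is fixed
    have hPP : P ≤ P₀ := fun g hg => ⟨hg, hmoves g hg⟩
    have h1 : Nat.card ↥P * Nat.card ↥(Fix ι P) ≤ q ^ 3 := by
      by_cases h1 : ∃ g ∈ P₀, g ≠ 1
      · calc Nat.card ↥P * Nat.card ↥(Fix ι P) ≤ q * q ^ 2 :=
            Nat.mul_le_mul ((Nat.card_mono (Set.toFinite _) (SetLike.coe_subset_coe.2 hPP)).trans hP0)
              ((Nat.card_mono (Set.toFinite _) (SetLike.coe_subset_coe.2 (hFix2 h1))).trans hL2)
          _ = q ^ 3 := by ring
      · push Not at h1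
        have hone : Nat.card ↥P = 1 := by
          rw [Subgroup.card_eq_one]
          exact eq_bot_iff.2 fun g hg => Subgroup.mem_bot.2 (h1 g (hPP hg))
        rw [hone, one_mul]
        exact (Nat.card_mono (Set.toFinite _) (SetLike.coe_subset_coe.2 hFix3)).trans hL3
    have : q ^ 4 ≤ 2 * q ^ 3 := calc
      q ^ 4 ≤ 2 * (Nat.card ↥P * Nat.card ↥(Fix ι P)) := by
        rw [← mul_assoc]; exact hR.trans hbound
      _ ≤ _ := Nat.mul_le_mul_left _ h1
    have h2 : q * q ^ 3 ≤ 2 * q ^ 3 := by rwa [← pow_succ']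
    have := Nat.le_of_mul_le_mul_right h2 (pow_pos hqpos 3)
    omega
  · push Not at hmoves
    obtain ⟨g₁, hg₁, r₁, hr₁, hmv⟩ := hmoves
    have hz : r₁ ∉ Fix ι P := fun hh => hmv (hh.2 g₁ hg₁)
    -- the image on the field
    have himg : Nat.card ↥P ≤ (q - 1) * Nat.card ↥P₀ := by
      let _ : CommRing ↥(E h) :=
        { (inferInstance : Ring ↥(E h)) with mul_comm := fun a b => Subtype.ext (a.2.2 b) }
      have : Nontrivial ↥(E h) := ⟨⟨0, 1, fun e => hν0 (by
          have e' : (0 : R) = 1 := congrArg Subtype.val e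
          rw [← mul_one ν, ← e', mul_zero])⟩⟩
      have : NoZeroDivisors ↥(E h) := ⟨fun {a b} hab => by
          by_contra hh
          push Not at hh
          obtain ⟨u, hu, huu⟩ := hF a a.2 (fun e => hh.1 (Subtype.ext e))
          apply hh.2
          refine Subtype.ext ?_
          show (b : R) = 0
          rw [← one_mul (b : R), ← huu, a.2.2, mul_assoc]
          rw [show (a : R) * b = 0 from congrArg Subtype.val hab, mul_zero]⟩
      have : IsDomain ↥(E h) := NoZeroDivisors.to_isDomain _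
      obtain ⟨ω, hω⟩ := IsCyclic.exists_generator (α := (↥(E h))ˣ)
      let w : ↥(E h) := (ω : ↥(E h))
      have hdetE : ∀ g ∈ P, ∀ g' ∈ P, g (w : R) = g' (w : R) → g⁻¹ * g' ∈ P₀ := by
        intro g hg g' hg' e'
        refine ⟨P.mul_mem (P.inv_mem hg) hg', fun r hr => ?_⟩
        have key : g' r = g r := by
          by_cases hr0 : r = 0
          · rw [hr0, _root_.map_zero, _root_.map_zero]
          have hru : IsUnit (⟨r, hr⟩ : ↥(E h)) := by
            obtain ⟨u, hu, huu⟩ := hF r hr hr0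
            exact IsUnit.of_mul_eq_one ⟨u, hu⟩ (Subtype.ext huu)
          obtain ⟨n, hn⟩ := (Submonoid.mem_powers_iff _ _).1
            ((isOfFinOrder_of_finite ω).mem_powers_iff_mem_zpowers.2 (hω hru.unit))
          have : r = (w : R) ^ n := by
            have := congrArg (fun u : (↥(E h))ˣ => ((u : ↥(E h)) : R)) hn
            simpa using this.symm
          rw [this, map_pow, map_pow, e']
        rw [RingAut.mul_apply, key, ← RingAut.mul_apply, inv_mul_cancel, RingAut.one_apply]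
      let img : ↥P → {t : ↥(E h) // t ≠ 0} := fun g =>
        ⟨⟨(g : RingAut R) (w : R), map_mem_E h hP g.2 w.2⟩, fun e' => by
          have e'' : (g : RingAut R) (w : R) = 0 := congrArg Subtype.val e'
          rw [map_eq_zero_iff _ (g : RingAut R).injective] at e''
          exact ω.ne_zero (Subtype.ext e'')⟩
      let sec : {t : ↥(E h) // t ≠ 0} → ↥P := fun t =>
        if ht : ∃ g, img g = t then ht.choose else 1
      have hsec : ∀ g, img (sec (img g)) = img g := fun g => by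
        have ht : ∃ g', img g' = img g := ⟨g, rfl⟩
        simp only [sec, dif_pos ht]; exact ht.choose_spec
      have hc : Nat.card {t : ↥(E h) // t ≠ 0} = q - 1 := by
        have := Set.ncard_compl ({0} : Set ↥(E h))
        rw [Set.ncard_singleton] at this
        rw [hq, ← this, ← Nat.card_coe_set_eq]
        rfl
      rw [← hc, ← Nat.card_prod]
      refine Nat.card_le_card_of_injective (fun g : ↥P => (img g,
        (⟨((sec (img g) : ↥P) : RingAut R)⁻¹ * g, hdetE _ (sec _).2 _ g.2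
          (congrArg (fun t : {t : ↥(E h) // t ≠ 0} => ((t : ↥(E h)) : R)) (hsec g))⟩ : ↥P₀))) ?_
      intro g g' e'
      obtain ⟨e1, e2⟩ := Prod.mk.inj e'
      have e3 : ((sec (img g) : ↥P) : RingAut R)⁻¹ * g = ((sec (img g') : ↥P) : RingAut R)⁻¹ * g' :=
        congrArg Subtype.val e2
      rw [e1] at e3
      exact Subtype.ext (mul_left_cancel e3)
    by_cases h1 : ∃ g ∈ P₀, g ≠ 1
    · have h2 := two_mul_card_le (hFix2 h1) (z := r₁)
        ⟨r₁, hr₁, 0, (E h).zero_mem, by simp⟩ hz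
      have : q ^ 4 ≤ (q - 1) * q * q ^ 2 := calc
        q ^ 4 ≤ Nat.card ↥P * (2 * Nat.card ↥(Fix ι P)) := le_trans (hR.trans hbound) (le_of_eq (by ring))
        _ ≤ (q - 1) * q * q ^ 2 :=
          Nat.mul_le_mul (himg.trans (Nat.mul_le_mul_left _ hP0)) (h2.trans hL2)
      have h3 : q * q ^ 3 ≤ (q - 1) * q ^ 3 := by
        calc q * q ^ 3 = q ^ 4 := by ring
          _ ≤ _ := this
          _ = _ := by ring
      have := Nat.le_of_mul_le_mul_right h3 (pow_pos hqpos 3)
      omega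
    · push Not at h1
      have hone : Nat.card ↥P₀ = 1 := by
        rw [Subgroup.card_eq_one]
        exact eq_bot_iff.2 fun g hg => Subgroup.mem_bot.2 (h1 g hg)
      have h2 := two_mul_card_le hFix3 (z := r₁) hr₁.1 hz
      have : q ^ 4 ≤ (q - 1) * q ^ 3 := calc
        q ^ 4 ≤ Nat.card ↥P * (2 * Nat.card ↥(Fix ι P)) := le_trans (hR.trans hbound) (le_of_eq (by ring))
        _ ≤ (q - 1) * q ^ 3 :=
          Nat.mul_le_mul (by rw [hone, mul_one] at himg; exact himg) (h2.trans hL3)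
      have h3 : q * q ^ 3 ≤ (q - 1) * q ^ 3 := by rwa [← pow_succ']
      have := Nat.le_of_mul_le_mul_right h3 (pow_pos hqpos 3)
      omega

end Cfsg.Lib.Offender.Quat
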