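import Cfsg.Agent.Lib.Offender.Algebra

/-!
Reduction of the counting bound to a ring whose central fixed elements form a field.
-/

set_option autoImplicit false

namespace Cfsg.Lib.Offender.Quat

variable {R : Type*} [Ring R] {ι : R →+ R}

/-- The block of a central idempotent. -/
def Blk (ε : R) : Type _ := {r : R // ε * r = r}

theorem pow_idem {M : Type*} [Monoid M] [Finite M] (a : M) :
    ∃ n, 0 < n ∧ a ^ n * a ^ n = a ^ n := by
  obtain ⟨i, j, hne, hij⟩ := Finite.exists_ne_map_eq_of_infinite (fun n : ℕ => a ^ n)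
  have key : ∀ i j : ℕ, i < j → a ^ i = a ^ j → ∃ n, 0 < n ∧ a ^ n * a ^ n = a ^ n := by
    intro i j hlt e
    obtain ⟨d, rfl⟩ : ∃ d, j = i + (d + 1) := ⟨j - i - 1, by omega⟩
    have hstep : ∀ m, i ≤ m → ∀ k : ℕ, a ^ (m + k * (d + 1)) = a ^ m := by
      intro m hm k
      obtain ⟨l, rfl⟩ := Nat.exists_eq_add_of_le hm
      induction k with
      | zero => simp
      | succ k ih =>
        rw [show i + l + (k + 1) * (d + 1) = i + (d + 1) + (l + k * (d + 1)) by ring,
          pow_add, ← e, ← pow_add, ← Nat.add_assoc, ih]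
    refine ⟨(i + 1) * (d + 1), Nat.mul_pos i.succ_pos d.succ_pos, ?_⟩
    rw [← pow_add]
    exact hstep _ (by nlinarith) (i + 1)
  rcases lt_or_gt_of_ne hne with hlt | hlt
  · exact key i j hlt hij
  · exact key j i hlt hij.symm

/-- The counting bound fails for a ring without invariant central decomposition. -/
theorem algebra_false [Finite R] (h : Inv₂ ι) {P : Subgroup (RingAut R)} (hP : Compat ι P)
    (hP2 : ∀ g ∈ P, g * g = 1)
    (hirr : ∀ r ∈ E h, (∀ g ∈ P, g r = r) → r = 0 ∨ ∃ s, r * s = 1)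
    (hJ : ∀ r, r ≠ 0 → ∃ s, r * s + ι (r * s) ≠ 0) (hnc : ∃ r s : R, r * s ≠ s * r)
    (hnb : ∃ r ∈ E h, r * r ≠ r)
    (hbound : Nat.card R ≤ 2 * Nat.card ↥P * Nat.card ↥(Fix ι P)) : False := by
  classical
  cases nonempty_fintype R
  have : Finite (RingAut R) := Finite.of_injective (fun g : RingAut R => (g : R → R))
    DFunLike.coe_injective
  obtain ⟨r₀, s₀, hrs₀⟩ := hnc
  have h10 : (1 : R) ≠ 0 := fun e => hrs₀ (by
    rw [← mul_one r₀, ← mul_one s₀, e]; simp)
  -- no square zero elements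
  have hdom : ∀ r ∈ E h, r * r = 0 → r = 0 := by
    by_contra hno
    push Not at hno
    obtain ⟨r, hr, hrr, hr0⟩ := hno
    let Z : AddSubgroup R :=
      { carrier := {r | r ∈ E h ∧ r * r = 0}
        zero_mem' := ⟨(E h).zero_mem, mul_zero _⟩
        add_mem' := fun {a b} ha hb => ⟨(E h).add_mem ha.1 hb.1, by
          rw [add_mul, mul_add, mul_add, ha.2, hb.2, zero_add, add_zero, hb.1.2 a, h.char]⟩
        neg_mem' := fun {a} ha => by rw [h.two]; exact ha }
    obtain ⟨e, he, he0, hefix⟩ := exists_fixed hP2 (S := (Z : Set R))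
      (fun g hg r hr => ⟨map_mem_E h hP hg hr.1, by rw [← map_mul, hr.2, _root_.map_zero]⟩)
      Z.zero_mem (even_card (fun x => Subtype.ext (h.char x)) (x := (⟨r, hr, hrr⟩ : ↥Z))
        fun e => hr0 (congrArg Subtype.val e))
    obtain ⟨s, hs⟩ := (hirr e he.1 hefix).resolve_left he0
    apply he0
    rw [← mul_one e, ← hs, ← mul_assoc, he.2, zero_mul]
  -- a primitive idempotent
  let cnt : R → ℕ := fun e => (Finset.univ.filter (fun r : R => e * r = r)).card
  obtain ⟨ε, hε', hmin⟩ := Finset.exists_min_image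
    (Finset.univ.filter (fun e : R => e ∈ E h ∧ e * e = e ∧ e ≠ 0)) cnt
    ⟨1, Finset.mem_filter.2 ⟨Finset.mem_univ _, (E h).one_mem, mul_one _, h10⟩⟩
  obtain ⟨-, hεE, hεε, hε0⟩ := Finset.mem_filter.1 hε'
  have hprim : ∀ e ∈ E h, e * e = e → e * ε = e → e = 0 ∨ e = ε := by
    intro e he hee hele
    by_cases he0 : e = 0
    · exact Or.inl he0
    refine Or.inr ?_
    have hsub : Finset.univ.filter (fun r : R => e * r = r) ⊆
        Finset.univ.filter (fun r : R => ε * r = r) := by
      intro r hr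
      rw [Finset.mem_filter] at hr ⊢
      refine ⟨hr.1, ?_⟩
      conv_lhs => rw [← hr.2, ← mul_assoc, hεE.2 e, hele, hr.2]
    have heq := Finset.eq_of_subset_of_card_le hsub
      (hmin e (Finset.mem_filter.2 ⟨Finset.mem_univ _, he, hee, he0⟩))
    have hmem : ε ∈ Finset.univ.filter (fun r : R => e * r = r) := by
      rw [heq]; exact Finset.mem_filter.2 ⟨Finset.mem_univ _, hεε⟩
    rw [← (Finset.mem_filter.1 hmem).2, hele]
  -- its orbit
  let O := {o : R // ∃ g : ↥P, (g : RingAut R) ε = o}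
  let sec : O → ↥P := fun o => o.2.choose
  have hsec : ∀ o : O, ((sec o : ↥P) : RingAut R) ε = o.1 := fun o => o.2.choose_spec
  have hOE : ∀ o : O, o.1 ∈ E h := fun o => hsec o ▸ map_mem_E h hP (sec o).2 hεE
  have hOO : ∀ o : O, o.1 * o.1 = o.1 := fun o => by rw [← hsec o, ← map_mul, hεε]
  have hOprim : ∀ (o : O), ∀ e ∈ E h, e * e = e → e * o.1 = e → e = 0 ∨ e = o.1 := by
    intro o e he hee hele
    set g : RingAut R := ((sec o : ↥P) : RingAut R) with hg
    obtain ⟨d, rfl⟩ := g.surjective e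
    rw [← hsec o, ← map_mul] at hele
    rw [← map_mul] at hee
    have hd : d ∈ E h := by
      have := map_mem_E h hP (P.inv_mem (sec o).2) he
      rwa [← RingAut.mul_apply, inv_mul_cancel, RingAut.one_apply] at this
    rcases hprim d hd (g.injective hee) (g.injective hele) with rfl | rfl
    · exact Or.inl (_root_.map_zero g)
    · exact Or.inr (hsec o)
  have horth : ∀ o o' : O, o ≠ o' → o.1 * o'.1 = 0 := by
    intro o o' hne
    have hm := (E h).mul_mem (hOE o) (hOE o')
    have hmm : o.1 * o'.1 * (o.1 * o'.1) = o.1 * o'.1 := by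
      rw [mul_assoc, ← mul_assoc o'.1, (hOE o').2 o.1, mul_assoc o.1 o'.1 o'.1, hOO, ← mul_assoc,
        hOO]
    rcases hOprim o _ hm hmm (by rw [(hm).2, ← mul_assoc, hOO]) with e | e
    · exact e
    · exfalso
      rcases hOprim o' _ hm hmm (by rw [mul_assoc, hOO]) with e' | e'
      · exact hε0 (((sec o : ↥P) : RingAut R).injective (by
          rw [hsec o, _root_.map_zero, ← e, e']))
      · exact hne (Subtype.ext (e.symm.trans e'))
  set S := ∑ o : O, o.1 with hS
  have hSE : S ∈ E h := (E h).sum_mem fun o _ => hOE o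
  have hoS : ∀ o : O, o.1 * S = o.1 := by
    intro o
    rw [hS, Finset.mul_sum, Finset.sum_eq_single o (fun o' _ hne => horth o o' hne.symm)
      (fun hh => absurd (Finset.mem_univ o) hh), hOO]
  have hεO : ∃ o : O, o.1 = ε := ⟨⟨ε, ⟨1, P.one_mem⟩, rfl⟩, rfl⟩
  have hSfix : ∀ g ∈ P, g S = S := by
    intro g hg
    rw [hS, _root_.map_sum]
    refine Fintype.sum_bijective (fun o : O => (⟨g o.1, ⟨g * sec o, P.mul_mem hg (sec o).2⟩, by
      rw [RingAut.mul_apply, hsec]⟩ : O)) ?_ _ _ fun o => rfl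
    exact Finite.injective_iff_bijective.1 fun o o' e => Subtype.ext (g.injective
      (congrArg Subtype.val e))
  have hS1 : S = 1 := by
    rcases hirr S hSE hSfix with e | ⟨s, hs⟩
    · obtain ⟨o, ho⟩ := hεO
      exfalso; apply hε0
      rw [← ho, ← hoS o, e, mul_zero]
    · have hSS : S * S = S := by
        conv_lhs => rw [hS, Finset.sum_mul]
        exact Finset.sum_congr rfl fun o _ => hoS o
      calc S = S * (S * s) := by rw [hs, mul_one]
        _ = 1 := by rw [← mul_assoc, hSS, hs]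
  have hdec : ∀ r : R, ∑ o : O, o.1 * r = r := fun r => by rw [← Finset.sum_mul, ← hS, hS1, one_mul]
  -- the block as a ring
  let C := Blk ε
  let _ : Add C := ⟨fun a b => ⟨a.1 + b.1, by rw [mul_add, a.2, b.2]⟩⟩
  let _ : Mul C := ⟨fun a b => ⟨a.1 * b.1, by rw [← mul_assoc, a.2]⟩⟩
  let _ : Neg C := ⟨fun a => ⟨-a.1, by rw [mul_neg, a.2]⟩⟩
  let _ : Zero C := ⟨⟨0, mul_zero _⟩⟩
  let _ : One C := ⟨⟨ε, hεε⟩⟩
  let _ : Ring C := Ring.ofMinimalAxioms
    (fun a b c => Subtype.ext (add_assoc a.1 b.1 c.1))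
    (fun a => Subtype.ext (zero_add a.1))
    (fun a => Subtype.ext (neg_add_cancel a.1))
    (fun a b c => Subtype.ext (mul_assoc a.1 b.1 c.1))
    (fun a => Subtype.ext a.2)
    (fun a => Subtype.ext (show a.1 * ε = a.1 by rw [← hεE.2, a.2]))
    (fun a b c => Subtype.ext (mul_add a.1 b.1 c.1))
    (fun a b c => Subtype.ext (add_mul a.1 b.1 c.1))
  have : Finite C := Finite.of_injective (fun a : C => a.1) fun a b e => Subtype.ext e
  let inC : R → C := fun r => ⟨ε * r, by rw [← mul_assoc, hεε]⟩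
  have hιC : ∀ r : R, ε * r = r → ε * ι r = ι r := fun r e => by
    conv_rhs => rw [← e, h.anti, hεE.1, ← hεE.2]
  let ι' : C →+ C :=
    { toFun := fun a => ⟨ι a.1, hιC a.1 a.2⟩
      map_zero' := Subtype.ext (map_zero ι)
      map_add' := fun a b => Subtype.ext (map_add ι a.1 b.1) }
  have h' : Inv₂ ι' :=
    { char := fun a => Subtype.ext (h.char a.1)
      invol := fun a => Subtype.ext (h.invol a.1)
      anti := fun a b => Subtype.ext (h.anti a.1 b.1)
      trace := fun a b => Subtype.ext (h.trace a.1 b.1)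
      norm := fun a b => Subtype.ext (h.norm a.1 b.1) }
  have hEC : ∀ a : C, a ∈ E h' → a.1 ∈ E h := by
    intro a ha
    refine ⟨congrArg Subtype.val ha.1, fun s => ?_⟩
    have e : a.1 * (ε * s) = ε * s * a.1 := congrArg Subtype.val (ha.2 (inC s))
    rwa [← mul_assoc, ← hεE.2 a.1, a.2, hεE.2 s, mul_assoc, a.2] at e
  have hCE : ∀ r ∈ E h, ∀ hr : ε * r = r, (⟨r, hr⟩ : C) ∈ E h' := fun r hr hr' =>
    ⟨Subtype.ext hr.1, fun b => Subtype.ext (hr.2 b.1)⟩
  -- the field
  have hF : ∀ a ∈ E h', a ≠ 0 → ∃ b ∈ E h', a * b = 1 := by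
    intro a ha ha0
    obtain ⟨n, hn, hnn⟩ := pow_idem a
    have hpow : ∀ m, a ^ m ∈ E h' := fun m => (E h').pow_mem ha m
    have hne : ∀ m, a ^ m ≠ 0 := by
      intro m
      have hstep : ∀ k, a ^ (2 ^ k) ≠ 0 := by
        intro k
        induction k with
        | zero => simpa using ha0
        | succ k ih =>
          intro e
          rw [pow_succ, pow_mul, pow_two] at e
          exact ih (Subtype.ext (hdom _ (hEC _ (hpow _)) (congrArg Subtype.val e)))
      intro e
      apply hstep m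
      rw [← Nat.add_sub_cancel' (Nat.lt_two_pow_self (n := m)).le, pow_add, e, zero_mul]
    have hunit : a ^ n = 1 := by
      rcases hprim (a ^ n).1 (hEC _ (hpow n)) (congrArg Subtype.val hnn)
        (by rw [← hεE.2]; exact (a ^ n).2) with e | e
      · exact absurd (Subtype.ext e) (hne n)
      · exact Subtype.ext e
    exact ⟨a ^ (n - 1), hpow _, by rw [← pow_succ', Nat.sub_add_cancel hn, hunit]⟩
  have hfour : ∃ a ∈ E h', a ≠ 0 ∧ a ≠ 1 := by
    by_contra hno
    push Not at hno
    obtain ⟨r, hr, hrr⟩ := hnb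
    apply hrr
    have key : ∀ e ∈ E h, ε * (e * e) = ε * e := by
      intro e he
      have hm : inC e ∈ E h' := hCE _ ((E h).mul_mem hεE he) _
      by_cases e0 : inC e = 0
      · have e0' : ε * e = 0 := congrArg Subtype.val e0
        rw [← mul_assoc, e0', zero_mul]
      · have e1 : ε * e = ε := congrArg Subtype.val (hno _ hm e0)
        rw [← mul_assoc, e1, e1]
    rw [← hdec (r * r), ← hdec r]
    refine Finset.sum_congr rfl fun o _ => ?_
    rw [hdec r]
    set g : RingAut R := ((sec o : ↥P) : RingAut R) with hg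
    have hd : g⁻¹ r ∈ E h := map_mem_E h hP (P.inv_mem (sec o).2) hr
    have e := congrArg g (key _ hd)
    rw [map_mul, map_mul, map_mul, hsec, ← RingAut.mul_apply, mul_inv_cancel,
      RingAut.one_apply] at e
    exact e
  have hnC : ∃ a b : C, a * b ≠ b * a := by
    by_contra hno
    push Not at hno
    apply hrs₀
    rw [← hdec (r₀ * s₀), ← hdec (s₀ * r₀)]
    refine Finset.sum_congr rfl fun o _ => ?_
    set g : RingAut R := ((sec o : ↥P) : RingAut R) with hg
    obtain ⟨r, rfl⟩ := g.surjective r₀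
    obtain ⟨s, rfl⟩ := g.surjective s₀
    rw [← hsec o, ← map_mul, ← map_mul, ← map_mul, ← map_mul]
    congr 1
    have e : ε * r * (ε * s) = ε * s * (ε * r) := congrArg Subtype.val (hno (inC r) (inC s))
    have m : ∀ u v : R, ε * u * (ε * v) = ε * (u * v) := fun u v => by
      rw [mul_assoc, ← mul_assoc u, ← hεE.2 u, mul_assoc, ← mul_assoc, hεε]
    rwa [m, m] at e
  have hJC : ∀ a : C, a ≠ 0 → ∃ b, a * b + ι' (a * b) ≠ 0 := by
    intro a ha
    obtain ⟨s, hs⟩ := hJ a.1 fun e => ha (Subtype.ext e)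
    refine ⟨inC s, fun e => hs ?_⟩
    have e' : a.1 * (ε * s) + ι (a.1 * (ε * s)) = 0 := congrArg Subtype.val e
    rwa [← mul_assoc, ← hεE.2 a.1, a.2] at e'
  -- the stabilizer
  let P₁ : Subgroup (RingAut R) :=
    { carrier := {g | g ∈ P ∧ g ε = ε}
      one_mem' := ⟨P.one_mem, rfl⟩
      mul_mem' := fun {a b} ha hb => ⟨P.mul_mem ha.1 hb.1, by
        rw [RingAut.mul_apply, hb.2, ha.2]⟩
      inv_mem' := fun {a} ha => ⟨P.inv_mem ha.1, by
        conv_lhs => rw [← ha.2]
        rw [← RingAut.mul_apply, inv_mul_cancel, RingAut.one_apply]⟩ }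
  have hblk : ∀ g ∈ P₁, ∀ r : R, ε * r = r → ε * g r = g r := by
    intro g hg r hr
    have := congrArg g hr
    rwa [map_mul, hg.2] at this
  let res : ↥P₁ → RingAut C := fun g =>
    { toFun := fun a => ⟨(g : RingAut R) a.1, hblk _ g.2 a.1 a.2⟩
      invFun := fun a => ⟨(g : RingAut R)⁻¹ a.1, hblk _ (P₁.inv_mem g.2) a.1 a.2⟩
      left_inv := fun a => Subtype.ext (by
        show (g : RingAut R)⁻¹ ((g : RingAut R) a.1) = a.1
        rw [← RingAut.mul_apply, inv_mul_cancel, RingAut.one_apply])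
      right_inv := fun a => Subtype.ext (by
        show (g : RingAut R) ((g : RingAut R)⁻¹ a.1) = a.1
        rw [← RingAut.mul_apply, mul_inv_cancel, RingAut.one_apply])
      map_mul' := fun a b => Subtype.ext (map_mul (g : RingAut R) a.1 b.1)
      map_add' := fun a b => Subtype.ext (_root_.map_add (g : RingAut R) a.1 b.1) }
  let resH : ↥P₁ →* RingAut C :=
    { toFun := res
      map_one' := RingEquiv.ext fun a => Subtype.ext rfl
      map_mul' := fun g g' => RingEquiv.ext fun a => Subtype.ext rfl }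
  have hPcomm : ∀ g ∈ P, ∀ g' ∈ P, g * g' = g' * g := by
    intro g hg g' hg'
    have hinv : ∀ u ∈ P, u⁻¹ = u := fun u hu => inv_eq_of_mul_eq_one_right (hP2 u hu)
    have := hinv _ (P.mul_mem hg hg')
    rw [mul_inv_rev, hinv g hg, hinv g' hg'] at this
    exact this.symm
  have hinj : Function.Injective resH := by
    intro g g' e
    refine Subtype.ext (RingEquiv.ext fun r => ?_)
    conv_lhs => rw [← hdec r, _root_.map_sum]
    conv_rhs => rw [← hdec r, _root_.map_sum]
    refine Finset.sum_congr rfl fun o _ => ?_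
    set k : RingAut R := ((sec o : ↥P) : RingAut R) with hk
    obtain ⟨u, rfl⟩ := k.surjective r
    rw [← hsec o, ← map_mul]
    show ((g : RingAut R) * k) _ = ((g' : RingAut R) * k) _
    rw [hPcomm _ g.2.1 _ (sec o).2, hPcomm _ g'.2.1 _ (sec o).2]
    show k ((g : RingAut R) (ε * u)) = k ((g' : RingAut R) (ε * u))
    have e' : (g : RingAut R) (ε * u) = (g' : RingAut R) (ε * u) :=
      congrArg Subtype.val (RingEquiv.congr_fun e (inC u))
    rw [e']
  let P' := resH.range
  have hP' : Compat ι' P' := by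
    rintro _ ⟨g, rfl⟩ a
    exact Subtype.ext (hP _ g.2.1 a.1)
  have hP'2 : ∀ g ∈ P', g * g = 1 := by
    rintro _ ⟨g, rfl⟩
    rw [← map_mul, show g * g = 1 from Subtype.ext (hP2 _ g.2.1), _root_.map_one]
  have hcardP' : Nat.card ↥P' = Nat.card ↥P₁ :=
    (Nat.card_congr (MonoidHom.ofInjective hinj).toEquiv).symm
  refine field_false h' hF hfour hJC hnC hP' hP'2 ?_
  -- counting
  set t := Nat.card O with ht
  have htpos : 0 < t := by
    obtain ⟨o, -⟩ := hεO
    exact Nat.card_pos_iff.2 ⟨⟨o⟩, inferInstance⟩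
  have hCR : Nat.card C ^ t ≤ Nat.card R := by
    rw [ht, ← Nat.card_fun]
    refine Nat.card_le_card_of_injective
      (fun F : O → C => ∑ o : O, ((sec o : ↥P) : RingAut R) (F o).1) ?_
    intro F F' e
    funext o
    have key : ∀ F : O → C, o.1 * ∑ o' : O, ((sec o' : ↥P) : RingAut R) (F o').1 =
        ((sec o : ↥P) : RingAut R) (F o).1 := by
      intro F
      rw [Finset.mul_sum, Finset.sum_eq_single o]
      · conv_lhs => rw [← hsec o, ← map_mul, (F o).2]
      · intro o' _ hne
        conv_lhs => rw [← (F o').2, map_mul, hsec o', ← mul_assoc, horth o o' hne.symm, zero_mul]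
      · exact fun hh => absurd (Finset.mem_univ o) hh
    refine Subtype.ext (((sec o : ↥P) : RingAut R).injective ?_)
    rw [← key F, ← key F']
    exact congrArg (o.1 * ·) e
  have hPP : Nat.card ↥P ≤ t * Nat.card ↥P₁ := by
    rw [ht, ← Nat.card_prod]
    let o : ↥P → O := fun g => ⟨(g : RingAut R) ε, g, rfl⟩
    refine Nat.card_le_card_of_injective (fun g : ↥P => (o g,
      (⟨((sec (o g) : ↥P) : RingAut R)⁻¹ * g, P.mul_mem (P.inv_mem (sec (o g)).2) g.2, by
        rw [RingAut.mul_apply]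
        conv_rhs => rw [← RingAut.one_apply (x := ε),
          ← inv_mul_cancel ((sec (o g) : ↥P) : RingAut R), RingAut.mul_apply, hsec]⟩ : ↥P₁))) ?_
    intro g g' e
    obtain ⟨e1, e2⟩ := Prod.mk.inj e
    have e3 := congrArg Subtype.val e2
    simp only at e3
    rw [e1] at e3
    exact Subtype.ext (mul_left_cancel e3)
  have hFixle : Nat.card ↥(Fix ι P) ≤ Nat.card ↥(Fix ι' P') := by
    refine Nat.card_le_card_of_injective (fun r : ↥(Fix ι P) => (⟨inC r.1, ?_, ?_⟩ : ↥(Fix ι' P'))) ?_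
    · refine Subtype.ext ?_
      show ι (ε * r.1) = ε * r.1
      rw [h.anti, r.2.1, hεE.1, hεE.2]
    · rintro _ ⟨g, rfl⟩
      refine Subtype.ext ?_
      show (g : RingAut R) (ε * r.1) = ε * r.1
      rw [map_mul, g.2.2, r.2.2 _ g.2.1]
    · intro r r' e
      have e' : ε * r.1 = ε * r'.1 := congrArg (fun x : ↥(Fix ι' P') => (x : C).1) e
      refine Subtype.ext ?_
      rw [← hdec r.1, ← hdec r'.1]
      refine Finset.sum_congr rfl fun o _ => ?_
      have := congrArg ((sec o : ↥P) : RingAut R) e'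
      rwa [map_mul, map_mul, hsec, r.2.2 _ (sec o).2, r'.2.2 _ (sec o).2] at this
  have hC2 : 2 ≤ Nat.card C := by
    have : Nontrivial C := ⟨⟨⟨ε, hεε⟩, 0, fun e => hε0 (congrArg Subtype.val e)⟩⟩
    exact Finite.one_lt_card
  have hpow : Nat.card C * t ≤ Nat.card C ^ t := by
    obtain ⟨k, hk⟩ : ∃ k, t = k + 1 := ⟨t - 1, by omega⟩
    rw [hk, pow_succ']
    exact Nat.mul_le_mul_left _ (Nat.lt_pow_self hC2)
  rw [hcardP']
  refine Nat.le_of_mul_le_mul_right ?_ htpos
  calc Nat.card C * t ≤ Nat.card R := hpow.trans hCR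
    _ ≤ 2 * (t * Nat.card ↥P₁) * Nat.card ↥(Fix ι' P') :=
      hbound.trans (Nat.mul_le_mul (Nat.mul_le_mul_left _ hPP) hFixle)
    _ = _ := by ring

end Cfsg.Lib.Offender.Quat
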