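import Cfsg.Agent.Lib.Offender.Two
import Cfsg.Agent.Lib.Offender.Block

/-!
An irreducible module for `K` and `A` where `A` has orbit `{K, aKa⁻¹}` and the diagonal fixes
`(a - 1)V`: the offender inequality fails.
-/

set_option autoImplicit false

namespace Cfsg.Lib.Offender

open Quat

variable {G V : Type*} [Group G] [AddCommGroup V] [Module (ZMod 2) V]
variable {f : Representation (ZMod 2) G V} {K A : Subgroup G}

theorem add_self_eq_zero {M : Type*} [AddCommGroup M] [Module (ZMod 2) M] (v : M) : v + v = 0 := by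
  rw [← two_smul (ZMod 2) v, show (2 : ZMod 2) = 0 from rfl, zero_smul]

theorem base_false [Finite G] [Finite V] (hP : Pair 2 K A) {a : G} (ha : a ∈ A)
    (hmove : a ∉ stab K A) (horb : ∀ b ∈ A, b ∈ stab K A ∨ a * b ∈ stab K A)
    (hirr : ∀ W : Submodule (ZMod 2) V, (∀ k ∈ K, ∀ w ∈ W, f k w ∈ W) →
      (∀ b ∈ A, ∀ w ∈ W, f b w ∈ W) → W ≠ ⊥ → W = ⊤)
    (hnt : ∃ k ∈ K, f k ≠ 1) (hd : ∀ k ∈ K, f (diag a k) * (f a - 1) = f a - 1)
    {x : V} (hx0 : x ≠ 0) (hxA : ∀ b ∈ A, f b x = x) (hxd : ∀ k ∈ K, f (diag a k) x = x)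
    (hbound : Nat.card V * Nat.card ↥(A ⊓ f.ker) ≤ Nat.card ↥A * Nat.card ↥(fixed f A)) :
    False := by
  classical
  set R := Algebra.adjoin (ZMod 2) (f '' (K : Set G)) with hR
  have : Finite (Module.End (ZMod 2) V) :=
    Finite.of_injective (fun u : Module.End (ZMod 2) V => (u : V → V)) DFunLike.coe_injective
  have hKR : ∀ k ∈ K, f k ∈ R := fun k hk => Algebra.subset_adjoin ⟨k, hk, rfl⟩
  have hmulinv : ∀ g : G, f g * f g⁻¹ = 1 := fun g => by rw [← map_mul, mul_inv_cancel, map_one]
  have hinvmul : ∀ g : G, f g⁻¹ * f g = 1 := fun g => by rw [← map_mul, inv_mul_cancel, map_one]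
  -- `K`-conjugates commute with the algebra
  have hcom1 : ∀ k ∈ K, ∀ r ∈ R, f (a * k * a⁻¹) * r = r * f (a * k * a⁻¹) := by
    intro k hk r hr
    induction hr using Algebra.adjoin_induction with
    | mem r hr =>
      obtain ⟨l, hl, rfl⟩ := hr
      exact map_comm (hP.commutes ha hmove hk hl)
    | algebraMap c => exact (Algebra.commutes c _).symm
    | add r s _ _ hr hs => rw [mul_add, add_mul, hr, hs]
    | mul r s _ _ hr hs => exact ((show Commute _ r from hr).mul_right hs).eq
  have hcom : ∀ s ∈ R, ∀ r ∈ R, f a * s * f a⁻¹ * r = r * (f a * s * f a⁻¹) := by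
    intro s hs r hr
    induction hs using Algebra.adjoin_induction with
    | mem s hs =>
      obtain ⟨k, hk, rfl⟩ := hs
      rw [← map_mul, ← map_mul]
      exact hcom1 k hk r hr
    | algebraMap c => rw [← Algebra.commutes c (f a), mul_assoc _ (f a), hmulinv, mul_one,
        Algebra.commutes c r]
    | add s t _ _ hs ht =>
      rw [show f a * (s + t) * f a⁻¹ = f a * s * f a⁻¹ + f a * t * f a⁻¹ by noncomm_ring, add_mul,
        mul_add, hs, ht]
    | mul s t _ _ hs ht =>
      have e : f a * (s * t) * f a⁻¹ = (f a * s * f a⁻¹) * (f a * t * f a⁻¹) := by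
        calc f a * (s * t) * f a⁻¹ = f a * s * (f a⁻¹ * f a) * t * f a⁻¹ := by
              rw [hinvmul]; noncomm_ring
          _ = _ := by noncomm_ring
      rw [e, mul_assoc, ht, ← mul_assoc, hs, mul_assoc]
  let φ : ↥R →ₗ[ZMod 2] V :=
    { toFun := fun r => (r : Module.End (ZMod 2) V) x
      map_add' := fun r s => rfl
      map_smul' := fun c r => rfl }
  set W := LinearMap.range φ with hW
  have hxW : x ∈ W := ⟨1, rfl⟩
  have haW : ∀ r ∈ R, ∃ r' ∈ R, f a (r x) = r' x := by
    intro r hr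
    induction hr using Algebra.adjoin_induction with
    | mem r hr =>
      obtain ⟨k, hk, rfl⟩ := hr
      refine ⟨f k⁻¹, hKR _ (K.inv_mem hk), ?_⟩
      have e : f (a * k * a⁻¹) x = f k⁻¹ x := by
        conv_rhs => rw [← hxd k hk]
        rw [← Module.End.mul_apply, ← map_mul, diag, inv_mul_cancel_left]
      rw [← e, map_mul, map_mul, Module.End.mul_apply, Module.End.mul_apply, hxA _ (A.inv_mem ha)]
    | algebraMap c => exact ⟨_, R.algebraMap_mem c, by simp [hxA a ha]⟩
    | add r s _ _ hr hs =>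
      obtain ⟨r', hr', er⟩ := hr
      obtain ⟨s', hs', es⟩ := hs
      exact ⟨r' + s', R.add_mem hr' hs', by simp [er, es]⟩
    | mul r s hrR hsR hr hs =>
      obtain ⟨r', hr', er⟩ := hr
      obtain ⟨s', hs', es⟩ := hs
      refine ⟨s' * r', R.mul_mem hs' hr', ?_⟩
      have e1 : f a ((r * s) x) = (f a * r * f a⁻¹ * s') x := by
        simp only [Module.End.mul_apply]
        rw [← es, ← Module.End.mul_apply (f a⁻¹), hinvmul, Module.End.one_apply]
      have e2 : (f a * r * f a⁻¹) x = r' x := by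
        simp only [Module.End.mul_apply]
        rw [← er]
        congr 2
        conv_lhs => rw [← hxA a ha, ← Module.End.mul_apply, hinvmul, Module.End.one_apply]
      rw [e1, hcom r hrR s' hs', Module.End.mul_apply, e2, Module.End.mul_apply]
  have hstabR : ∀ b ∈ stab K A, ∀ r ∈ R, f b * r * f b⁻¹ ∈ R := by
    intro b hb r hr
    induction hr using Algebra.adjoin_induction with
    | mem r hr =>
      obtain ⟨k, hk, rfl⟩ := hr
      rw [← map_mul, ← map_mul]
      exact hKR _ (conj_mem_of_stab hb hk)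
    | algebraMap c =>
      rw [← Algebra.commutes c (f b), mul_assoc, hmulinv, mul_one]; exact R.algebraMap_mem c
    | add r s _ _ hr hs =>
      rw [show f b * (r + s) * f b⁻¹ = f b * r * f b⁻¹ + f b * s * f b⁻¹ by noncomm_ring]
      exact R.add_mem hr hs
    | mul r s _ _ hr hs =>
      have e : f b * (r * s) * f b⁻¹ = (f b * r * f b⁻¹) * (f b * s * f b⁻¹) := by
        calc f b * (r * s) * f b⁻¹ = f b * r * (f b⁻¹ * f b) * s * f b⁻¹ := by
              rw [hinvmul]; noncomm_ring
          _ = _ := by noncomm_ring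
      rw [e]; exact R.mul_mem hr hs
  have hstabx : ∀ b ∈ stab K A, ∀ r : Module.End (ZMod 2) V,
      (f b * r * f b⁻¹) x = f b (r x) := by
    intro b hb r
    rw [Module.End.mul_apply, Module.End.mul_apply, hxA _ (A.inv_mem hb.1)]
  have haa : a * a = 1 := sq_eq_one hP ha
  have hsurj : W = ⊤ := by
    refine hirr W ?_ ?_ fun e => hx0 ?_
    · rintro k hk _ ⟨r, rfl⟩
      exact ⟨⟨f k * r, R.mul_mem (hKR k hk) r.2⟩, rfl⟩
    · have hst : ∀ b ∈ stab K A, ∀ w ∈ W, f b w ∈ W := by
        rintro b hb _ ⟨r, rfl⟩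
        exact ⟨⟨_, hstabR b hb r r.2⟩, hstabx b hb r⟩
      have haW' : ∀ w ∈ W, f a w ∈ W := by
        rintro _ ⟨r, rfl⟩
        obtain ⟨r', hr', e⟩ := haW r r.2
        exact ⟨⟨r', hr'⟩, e.symm⟩
      intro b hb w hw
      rcases horb b hb with h | h
      · exact hst b h w hw
      · rw [show b = a * (a * b) by rw [← mul_assoc, haa, one_mul], map_mul, Module.End.mul_apply]
        exact haW' _ (hst _ h w hw)
    · rw [e, Submodule.mem_bot] at hxW
      exact hxW
  have hfull : ∀ v : V, ∃ r : ↥R, φ r = v := fun v =>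
    LinearMap.mem_range.1 (hsurj ▸ Submodule.mem_top : v ∈ W)
  have hφinj : Function.Injective φ := by
    rw [injective_iff_map_eq_zero]
    intro r hr
    refine Subtype.ext (LinearMap.ext fun v => ?_)
    obtain ⟨s, hs⟩ := hfull (f a⁻¹ v)
    have hv : (f a * (s : Module.End (ZMod 2) V) * f a⁻¹) x = v := by
      rw [Module.End.mul_apply, Module.End.mul_apply, hxA _ (A.inv_mem ha)]
      change f a (φ s) = v
      rw [hs, ← Module.End.mul_apply, hmulinv, Module.End.one_apply]
    rw [← hv, ← Module.End.mul_apply, ← hcom s s.2 r r.2, Module.End.mul_apply,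
      show (r : Module.End (ZMod 2) V) x = 0 from hr, map_zero]
    rfl
  let e := LinearEquiv.ofBijective φ ⟨hφinj, hfull⟩
  let ι : ↥R →+ ↥R :=
    ((e.symm.toLinearMap.comp ((f a).comp e.toLinearMap)).toAddMonoidHom)
  have hι : ∀ r : ↥R, φ (ι r) = f a (φ r) := fun r => e.apply_symm_apply _
  have hφmul : ∀ r s : ↥R, φ (r * s) = (r : Module.End (ZMod 2) V) (φ s) := fun r s => rfl
  have hφa : ∀ r s : ↥R,
      f a ((r : Module.End (ZMod 2) V) (φ s)) = φ (ι s * ι r) := by
    intro r s
    have e1 : f a ((r : Module.End (ZMod 2) V) (φ s)) =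
        (f a * (r : Module.End (ZMod 2) V) * f a⁻¹) (φ (ι s)) := by
      rw [hι, Module.End.mul_apply, Module.End.mul_apply, ← Module.End.mul_apply (f a⁻¹),
        hinvmul, Module.End.one_apply]
    have e2 : (f a * (r : Module.End (ZMod 2) V) * f a⁻¹) x = φ (ι r) := by
      rw [hι, Module.End.mul_apply, Module.End.mul_apply, hxA _ (A.inv_mem ha)]
      rfl
    rw [e1, hφmul, ← e2, ← Module.End.mul_apply, ← hcom r r.2 _ (ι s).2, Module.End.mul_apply]
    rfl
  have hanti : ∀ r s : ↥R, ι (r * s) = ι s * ι r := fun r s => hφinj (by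
    rw [hι, hφmul, hφa])
  have hinvol : ∀ r : ↥R, ι (ι r) = r := fun r => hφinj (by
    rw [hι, hι, ← Module.End.mul_apply, ← map_mul, haa, map_one, Module.End.one_apply])
  have hchar : ∀ r : ↥R, r + r = 0 := fun r => add_self_eq_zero r
  have hone : ι 1 = 1 := hφinj (by rw [hι]; exact hxA a ha)
  have hιk : ∀ k (hk : k ∈ K), ι ⟨f k, hKR k hk⟩ = ⟨f k⁻¹, hKR _ (K.inv_mem hk)⟩ := by
    intro k hk
    apply hφinj
    rw [hι]
    show f a (f k x) = f k⁻¹ x
    conv_rhs => rw [← hxd k hk]
    rw [← Module.End.mul_apply (f k⁻¹), ← map_mul, diag, inv_mul_cancel_left, map_mul, map_mul,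
      Module.End.mul_apply, Module.End.mul_apply, hxA _ (A.inv_mem ha)]
  -- central elements
  have hgen : ∀ T : ↥R, (∀ k ∈ K, (T : Module.End (ZMod 2) V) * f k = f k * T) →
      ∀ s : ↥R, T * s = s * T := by
    intro T hT s
    apply Subtype.ext
    show (T : Module.End (ZMod 2) V) * s = s * T
    obtain ⟨s, hs⟩ := s
    induction hs using Algebra.adjoin_induction with
    | mem s hs => obtain ⟨k, hk, rfl⟩ := hs; exact hT k hk
    | algebraMap c => exact (Algebra.commutes c _).symm
    | add s t _ _ hs ht =>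
      show _ * (s + t) = (s + t) * _
      rw [mul_add, add_mul, hs, ht]
    | mul s t _ _ hs ht =>
      show _ * (s * t) = (s * t) * _
      rw [← mul_assoc, hs, mul_assoc, ht, mul_assoc]
  have htrace : ∀ r s : ↥R, (r + ι r) * s = s * (r + ι r) := by
    intro r
    refine hgen _ fun k hk => ?_
    set T := r + ι r with hT
    have hTx : f (diag a k) (φ T) = φ T := by
      have e1 : φ T = (f a - 1) (φ r) := by
        rw [hT, map_add, hι, LinearMap.sub_apply, Module.End.one_apply, eq_sub_iff_add_eq,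
          add_comm (φ r), add_assoc, add_self_eq_zero, add_zero]
      rw [e1, ← Module.End.mul_apply, hd k hk]
    have e1 : f (diag a k) (φ T) = φ (⟨f k, hKR k hk⟩ * (T * ⟨f k⁻¹, hKR _ (K.inv_mem hk)⟩)) := by
      rw [diag, map_mul, Module.End.mul_apply, hφmul, hφmul]
      show f k _ = f k _
      congr 1
      rw [show φ T = (T : Module.End (ZMod 2) V) x from rfl, ← Module.End.mul_apply,
        hcom1 k hk T T.2, Module.End.mul_apply]
      congr 1
      show f (a * k * a⁻¹) x = f k⁻¹ x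
      conv_rhs => rw [← hxd k hk]
      rw [← Module.End.mul_apply, ← map_mul, diag, inv_mul_cancel_left]
    have e2 := congrArg Subtype.val (hφinj (e1.symm.trans hTx))
    calc (T : Module.End (ZMod 2) V) * f k
        = f k * ((T : Module.End (ZMod 2) V) * f k⁻¹) * f k := congrArg (· * f k) e2.symm
      _ = f k * ((T : Module.End (ZMod 2) V) * (f k⁻¹ * f k)) := by noncomm_ring
      _ = f k * T := by rw [hinvmul, mul_one]
  have hnorm : ∀ r s : ↥R, (r * ι r) * s = s * (r * ι r) := by
    intro r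
    obtain ⟨r, hr⟩ := r
    induction hr using Algebra.adjoin_induction with
    | mem r hr =>
      obtain ⟨k, hk, rfl⟩ := hr
      intro s
      rw [hιk k hk]
      have : (⟨f k, hKR k hk⟩ : ↥R) * ⟨f k⁻¹, hKR _ (K.inv_mem hk)⟩ = 1 := Subtype.ext (hmulinv k)
      rw [this, one_mul, mul_one]
    | algebraMap c =>
      intro s
      have hc : ι (algebraMap (ZMod 2) ↥R c) = algebraMap (ZMod 2) ↥R c := hφinj (by
        rw [hι]
        show f a ((algebraMap (ZMod 2) (Module.End (ZMod 2) V) c) x) = _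
        rw [Module.algebraMap_end_apply, map_smul, hxA a ha]
        rfl)
      change algebraMap (ZMod 2) ↥R c * ι (algebraMap (ZMod 2) ↥R c) * s =
        s * (algebraMap (ZMod 2) ↥R c * ι (algebraMap (ZMod 2) ↥R c))
      rw [hc, ← map_mul]
      exact Algebra.commutes _ _
    | add r₁ r₂ h₁ h₂ i₁ i₂ =>
      intro s
      have e1 := i₁ s
      have e2 := i₂ s
      set u : ↥R := ⟨r₁, h₁⟩
      set v : ↥R := ⟨r₂, h₂⟩
      change (u + v) * ι (u + v) * s = s * ((u + v) * ι (u + v))
      have e3 := htrace (u * ι v) s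
      rw [hanti, hinvol] at e3
      rw [map_add,
        show (u + v) * (ι u + ι v) = u * ι u + v * ι v + (u * ι v + v * ι u) by noncomm_ring,
        add_mul, add_mul (u * ι u), mul_add s, mul_add s (u * ι u), e1, e2, e3]
    | mul r₁ r₂ h₁ h₂ i₁ i₂ =>
      intro s
      set u : ↥R := ⟨r₁, h₁⟩
      set v : ↥R := ⟨r₂, h₂⟩
      change u * v * ι (u * v) * s = s * (u * v * ι (u * v))
      have e : u * v * ι (u * v) = (v * ι v) * (u * ι u) := by
        rw [hanti, mul_assoc u v, ← mul_assoc v (ι v) (ι u), ← mul_assoc u, ← i₂ u, mul_assoc]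
      rw [e, mul_assoc, i₁ s, ← mul_assoc, i₂ s, mul_assoc]
  have hI : Inv₂ ι := ⟨hchar, hinvol, hanti, htrace, hnorm⟩
  -- automorphisms
  let σ : ↥(stab K A) →* RingAut ↥R :=
    { toFun := fun b =>
        { toFun := fun r => ⟨_, hstabR b b.2 r r.2⟩
          invFun := fun r => ⟨_, hstabR (b : G)⁻¹ ((stab K A).inv_mem b.2) r r.2⟩
          left_inv := fun r => Subtype.ext (by
            show f (b : G)⁻¹ * (f b * r * f (b : G)⁻¹) * f (b : G)⁻¹⁻¹ = r
            rw [inv_inv, ← mul_assoc, ← mul_assoc, hinvmul, one_mul, mul_assoc, hinvmul, mul_one])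
          right_inv := fun r => Subtype.ext (by
            show f (b : G) * (f (b : G)⁻¹ * r * f (b : G)⁻¹⁻¹) * f (b : G)⁻¹ = r
            rw [inv_inv, ← mul_assoc, ← mul_assoc, hmulinv, one_mul, mul_assoc, hmulinv, mul_one])
          map_mul' := fun r s => Subtype.ext (by
            show f (b : G) * ((r : Module.End (ZMod 2) V) * s) * f (b : G)⁻¹ =
              (f (b : G) * r * f (b : G)⁻¹) * (f (b : G) * s * f (b : G)⁻¹)
            calc _ = f (b : G) * r * (f (b : G)⁻¹ * f (b : G)) * s * f (b : G)⁻¹ := by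
                  rw [hinvmul]; noncomm_ring
              _ = _ := by noncomm_ring)
          map_add' := fun r s => Subtype.ext (by
            show f (b : G) * ((r : Module.End (ZMod 2) V) + s) * f (b : G)⁻¹ =
              f (b : G) * r * f (b : G)⁻¹ + f (b : G) * s * f (b : G)⁻¹
            noncomm_ring) }
      map_one' := RingEquiv.ext fun r => Subtype.ext (by
        show f 1 * (r : Module.End (ZMod 2) V) * f 1⁻¹ = r
        rw [inv_one, map_one, one_mul, mul_one])
      map_mul' := fun b c => RingEquiv.ext fun r => Subtype.ext (by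
        show f ((b : G) * c) * (r : Module.End (ZMod 2) V) * f ((b : G) * c)⁻¹ =
          f (b : G) * (f (c : G) * r * f (c : G)⁻¹) * f (b : G)⁻¹
        rw [mul_inv_rev, map_mul, map_mul]; noncomm_ring) }
  have hσ : ∀ (b : ↥(stab K A)) (r : ↥R), φ (σ b r) = f b (φ r) := fun b r => hstabx b b.2 r
  have hPc : Compat ι σ.range := by
    rintro _ ⟨b, rfl⟩ r
    apply hφinj
    rw [hσ, hι, hι, hσ, ← Module.End.mul_apply, ← Module.End.mul_apply,
      map_comm (hP.comm _ b.2.1 a ha)]
  have hP2 : ∀ g ∈ σ.range, g * g = 1 := by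
    rintro _ ⟨b, rfl⟩
    rw [← map_mul, show b * b = 1 from Subtype.ext (sq_eq_one hP b.2.1), map_one]
  have hnc : ∃ r s : ↥R, r * s ≠ s * r := by
    by_contra hno
    push Not at hno
    obtain ⟨k, hk, hne⟩ := hnt
    exact hne (hP.quasi.eq_one_of_comm (fun u hu v hv =>
      congrArg Subtype.val (hno ⟨f u, hKR u hu⟩ ⟨f v, hKR v hv⟩)) k hk)
  -- submodules from stable sets
  have hsub : ∀ S : Submodule (ZMod 2) ↥R, (∀ r ∈ S, ∀ u : ↥R, u * r ∈ S) → (∀ r ∈ S, ι r ∈ S) →
      (∀ r ∈ S, ∀ g ∈ σ.range, g r ∈ S) → S = ⊥ ∨ (1 : ↥R) ∈ S := by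
    intro S h1 h2 h3
    by_cases hS : S = ⊥
    · exact Or.inl hS
    refine Or.inr ?_
    have htop : S.map φ = ⊤ := by
      refine hirr _ ?_ ?_ ?_
      · rintro k hk _ ⟨r, hr, rfl⟩
        exact ⟨_, h1 r hr ⟨f k, hKR k hk⟩, rfl⟩
      · have hst : ∀ b ∈ stab K A, ∀ w ∈ S.map φ, f b w ∈ S.map φ := by
          rintro b hb _ ⟨r, hr, rfl⟩
          exact ⟨_, h3 r hr _ ⟨⟨b, hb⟩, rfl⟩, hσ ⟨b, hb⟩ r⟩
        have haW' : ∀ w ∈ S.map φ, f a w ∈ S.map φ := by
          rintro _ ⟨r, hr, rfl⟩
          exact ⟨_, h2 r hr, hι r⟩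
        intro b hb w hw
        rcases horb b hb with h | h
        · exact hst b h w hw
        · rw [show b = a * (a * b) by rw [← mul_assoc, haa, one_mul], map_mul,
            Module.End.mul_apply]
          exact haW' _ (hst _ h w hw)
      · intro e'
        apply hS
        rwa [← Submodule.map_bot φ, (Submodule.map_injective_of_injective hφinj).eq_iff] at e'
    obtain ⟨r, hr, hr'⟩ := Submodule.mem_map.1 (htop ▸ Submodule.mem_top : x ∈ S.map φ)
    rwa [hφinj (hr'.trans (show x = φ 1 from rfl))] at hr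
  have hfixE : ∀ r ∈ E hI, (∀ g ∈ σ.range, g r = r) → r = 0 ∨ ∃ s, r * s = 1 := by
    intro r hr hfix
    refine (hsub (LinearMap.range (LinearMap.mulLeft (ZMod 2) r)) ?_ ?_ ?_).elim (fun h => ?_)
      (fun h => ?_)
    · rintro _ ⟨s, rfl⟩ u
      exact ⟨u * s, show r * (u * s) = u * (r * s) by rw [← mul_assoc, hr.2, mul_assoc]⟩
    · rintro _ ⟨s, rfl⟩
      exact ⟨ι s, show r * ι s = ι (r * s) by rw [hanti, hr.1, hr.2]⟩
    · rintro _ ⟨s, rfl⟩ g hg
      exact ⟨g s, show r * g s = g (r * s) by rw [map_mul, hfix g hg]⟩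
    · left
      have hm : r * 1 ∈ LinearMap.range (LinearMap.mulLeft (ZMod 2) r) := ⟨1, rfl⟩
      rwa [h, Submodule.mem_bot, mul_one] at hm
    · obtain ⟨s, hs⟩ := h
      exact Or.inr ⟨s, hs⟩
  have htsym : ∀ u v : ↥R, u * v + ι (u * v) = v * u + ι (v * u) := by
    intro u v
    have hh : ∀ r : ↥R, ι r = (r + ι r) + r := fun r => by
      rw [add_comm r, add_assoc, hchar, add_zero]
    have c1 := htrace v u
    have c2 := htrace u v
    have c3 := htrace u (v + ι v)
    rw [hanti, hanti, hh u, hh v]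
    generalize u + ι u = Tu at *
    generalize v + ι v = Tv at *
    linear_combination (norm := noncomm_ring) c1 - c2 - c3
  have hJ : ∀ r : ↥R, r ≠ 0 → ∃ s, r * s + ι (r * s) ≠ 0 := by
    intro r hr
    by_contra hno
    push Not at hno
    let J : Submodule (ZMod 2) ↥R :=
      { carrier := {r | ∀ s, r * s + ι (r * s) = 0}
        zero_mem' := fun s => by rw [zero_mul, map_zero, add_zero]
        add_mem' := fun {u v} hu hv s => by
          rw [add_mul, map_add, add_add_add_comm, hu s, hv s, add_zero]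
        smul_mem' := fun c u hu s => by
          rcases (by decide : ∀ c : ZMod 2, c = 0 ∨ c = 1) c with rfl | rfl
          · rw [zero_smul, zero_mul, map_zero, add_zero]
          · rw [one_smul]; exact hu s }
    refine (hsub J ?_ ?_ ?_).elim (fun h => ?_) (fun h => ?_)
    · intro u hu w s
      rw [mul_assoc, htsym, mul_assoc]
      exact hu (s * w)
    · intro u hu s
      have := hu (ι s)
      rw [htsym u, hanti] at this
      rw [hanti, add_comm]
      rw [hinvol] at this
      calc ι s * ι (ι u) + ι u * s = ι s * u + ι u * s := by rw [hinvol]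
        _ = 0 := this
    · rintro u hu g hg s
      obtain ⟨t, rfl⟩ := g.surjective s
      rw [← map_mul, ← hPc g hg, ← map_add, hu t, map_zero]
    · have hrJ : r ∈ J := hno
      rw [h] at hrJ
      exact hr ((Submodule.mem_bot _).1 hrJ)
    · obtain ⟨u, v, huv⟩ := hnc
      have hid : ∀ s : ↥R, ι s = s := fun s => by
        have := h s
        rw [one_mul] at this
        exact ((hI.eq_add).2 this).symm
      apply huv
      rw [← hid (u * v), hanti, hid, hid]
  have hnb : ∃ r ∈ E hI, r * r ≠ r := by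
    by_contra hno
    push Not at hno
    obtain ⟨k₀, hk₀, hne⟩ := hnt
    refine hne (hP.quasi.eq_one_of_exp (fun k hk l _ => ?_) k₀ hk₀)
    set κ : ↥R := ⟨f k, hKR k hk⟩
    set t := κ + ι κ with ht
    have htE : t ∈ E hI := trace_mem hI κ
    have htt := hno t htE
    have hk1 : κ * ι κ = 1 := by rw [hιk k hk]; exact Subtype.ext (hmulinv k)
    have hsq : κ * κ = t * κ + 1 := by
      rw [hI.eq_add, ht, add_mul, ← hk1]
      have : ι κ * κ = κ * ι κ := by
        have := htrace κ κ
        rw [add_mul, mul_add] at this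
        exact add_left_cancel this
      rw [this, show κ * κ + (κ * κ + κ * ι κ + κ * ι κ) =
        (κ * κ + κ * κ) + (κ * ι κ + κ * ι κ) by abel, hchar, hchar, add_zero]
    have hc : κ * t = t * κ := (htE.2 κ).symm
    clear_value t
    obtain ⟨u, hu⟩ : ∃ u, u = (1 + t) * κ := ⟨_, rfl⟩
    have htu : t * (1 + t) = 0 := by rw [mul_add, mul_one, htt, hchar]
    have h11 : (1 + t) * (1 + t) = 1 + t := by
      rw [add_mul, one_mul, htu, add_zero]
    have h3 : κ * κ * κ = u + t := by
      calc κ * κ * κ = t * (κ * κ) + κ := by rw [hsq, add_mul, one_mul, mul_assoc, ← hsq]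
        _ = t * t * κ + t + κ := by rw [hsq, mul_add, mul_one, mul_assoc]
        _ = u + t := by rw [htt, hu, add_mul, one_mul]; abel
    have hcu : u * t = 0 := by
      rw [hu, mul_assoc, hc, ← mul_assoc, ← (htE.2 (1 + t)), htu, zero_mul]
    have hcu' : t * u = 0 := by rw [hu, ← mul_assoc, htu, zero_mul]
    have h6 : (κ * κ * κ) * (κ * κ * κ) = 1 := by
      rw [h3, mul_add, add_mul, add_mul, hcu, hcu', htt, add_zero, zero_add]
      have : u * u = (1 + t) * (κ * κ) := by
        rw [hu, mul_assoc, ← mul_assoc κ, show κ * (1 + t) = (1 + t) * κ by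
          rw [mul_add, add_mul, one_mul, mul_one, hc], mul_assoc (1 + t) κ κ, ← mul_assoc, h11]
      rw [this, hsq, mul_add, mul_one, ← mul_assoc, show (1 + t) * t = 0 by
        rw [add_mul, one_mul, htt, hchar], zero_mul, zero_add, add_assoc, hchar, add_zero]
    have h12 : f (k ^ 12) = 1 := by
      have e6 : f k * f k * f k * (f k * f k * f k) = 1 := congrArg Subtype.val h6
      calc f (k ^ 12) = (f k * f k * f k * (f k * f k * f k)) *
            (f k * f k * f k * (f k * f k * f k)) := by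
            rw [map_pow]; noncomm_ring
        _ = 1 := by rw [e6, one_mul]
    rw [h12, one_mul, mul_one]
  refine algebra_false hI hPc hP2 hfixE hJ hnc hnb ?_
  -- counting
  have hVR : Nat.card V = Nat.card ↥R := (Nat.card_congr e.toEquiv).symm
  have hfix : Nat.card ↥(fixed f A) ≤ Nat.card ↥(Quat.Fix ι σ.range) := by
    refine Nat.card_le_card_of_injective
      (fun v : ↥(fixed f A) => (⟨e.symm v, ?_, ?_⟩ : ↥(Quat.Fix ι σ.range)))
      fun v w h => Subtype.ext (e.symm.injective (congrArg Subtype.val h))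
    · apply hφinj
      rw [hι]
      show f a (e (e.symm v)) = e (e.symm v)
      rw [e.apply_symm_apply, v.2 a ha]
    · rintro _ ⟨b, rfl⟩
      apply hφinj
      rw [hσ]
      show f b (e (e.symm v)) = e (e.symm v)
      rw [e.apply_symm_apply, v.2 b b.2.1]
  have hA : Nat.card ↥A ≤ 2 * Nat.card ↥(stab K A) := by
    have hbool : Nat.card Bool = 2 :=
      Nat.card_eq_two_iff.2 ⟨true, false, by simp, by ext b; cases b <;> simp⟩
    rw [← hbool, ← Nat.card_prod]
    refine Nat.card_le_card_of_injective (fun g : ↥A => if h : (g : G) ∈ stab K A then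
      (true, (⟨g, h⟩ : ↥(stab K A))) else (false, ⟨a * g, (horb g g.2).resolve_left h⟩)) ?_
    intro g₁ g₂ h
    by_cases h1 : (g₁ : G) ∈ stab K A <;> by_cases h2 : (g₂ : G) ∈ stab K A <;>
      simp [h1, h2] at h <;> exact Subtype.ext (by simpa using congrArg Subtype.val h)
  have hker : Nat.card ↥σ.ker ≤ Nat.card ↥(A ⊓ f.ker) := by
    refine Nat.card_le_card_of_injective
      (fun b : ↥σ.ker => (⟨((b : ↥(stab K A)) : G), (b : ↥(stab K A)).2.1, ?_⟩ : ↥(A ⊓ f.ker))) ?_
    · show f ((b : ↥(stab K A)) : G) = 1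
      refine LinearMap.ext fun v => ?_
      obtain ⟨r, rfl⟩ := hfull v
      rw [← hσ, MonoidHom.mem_ker.1 b.2]
      rfl
    · intro b c h
      exact Subtype.ext (Subtype.ext (congrArg (fun z : ↥(A ⊓ f.ker) => (z : G)) h))
  have hstab : Nat.card ↥(stab K A) = Nat.card ↥σ.range * Nat.card ↥σ.ker := by
    rw [Subgroup.card_eq_card_quotient_mul_card_subgroup σ.ker,
      Nat.card_congr (QuotientGroup.quotientKerEquivRange σ).toEquiv]
  refine Nat.le_of_mul_le_mul_right ?_ (Nat.card_pos (α := ↥(A ⊓ f.ker)))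
  calc Nat.card ↥R * Nat.card ↥(A ⊓ f.ker) ≤ Nat.card ↥A * Nat.card ↥(fixed f A) := hVR ▸ hbound
    _ ≤ 2 * (Nat.card ↥σ.range * Nat.card ↥σ.ker) * Nat.card ↥(Quat.Fix ι σ.range) :=
      Nat.mul_le_mul (hstab ▸ hA) hfix
    _ ≤ 2 * (Nat.card ↥σ.range * Nat.card ↥(A ⊓ f.ker)) * Nat.card ↥(Quat.Fix ι σ.range) :=
      Nat.mul_le_mul_right _ (Nat.mul_le_mul_left _ (Nat.mul_le_mul_left _ hker))
    _ = _ := by ring

end Cfsg.Lib.Offender
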