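import Mathlib
import Cfsg.Agent.Lib.Characters.Burnside

/-!
Operators of a group representation: fixers of operators, and perfect subgroups all of whose
proper normal subgroups are central.
-/

set_option autoImplicit false

namespace Cfsg.Lib.Offender

variable {p : ℕ} {G V : Type*} [Group G] [AddCommGroup V] [Module (ZMod p) V]

/-- A perfect subgroup whose proper normal subgroups are central. -/
structure Quasi (K : Subgroup G) : Prop where
  perfect : ⁅K, K⁆ = K
  normal_sub : ∀ N : Subgroup G, N ≤ K → (∀ x ∈ K, ∀ n ∈ N, x * n * x⁻¹ ∈ N) →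
    N = K ∨ ∀ n ∈ N, ∀ x ∈ K, x * n = n * x

variable (f : Representation (ZMod p) G V)

/-- The group elements fixing an operator from the left. -/
def lfix (T : Module.End (ZMod p) V) : Subgroup G where
  carrier := {g | f g * T = T}
  one_mem' := by simp
  mul_mem' {g h} hg hh := by
    show f (g * h) * T = T
    rw [map_mul, mul_assoc, hh, hg]
  inv_mem' {g} hg := by
    show f g⁻¹ * T = T
    conv_lhs => rw [← hg]
    rw [← mul_assoc, ← map_mul, inv_mul_cancel, map_one, one_mul]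

variable {f}

theorem mem_lfix {T : Module.End (ZMod p) V} {g : G} : g ∈ lfix f T ↔ f g * T = T := Iff.rfl

theorem op_cancel (g : G) {S T : Module.End (ZMod p) V} (h : f g * S = f g * T) : S = T := by
  have := congrArg (f g⁻¹ * ·) h
  simpa [← mul_assoc, ← map_mul] using this

theorem op_cancel_right (g : G) {S T : Module.End (ZMod p) V} (h : S * f g = T * f g) : S = T := by
  have := congrArg (· * f g⁻¹) h
  simpa [mul_assoc, ← map_mul] using this

theorem map_comm {g h : G} (e : g * h = h * g) : f g * f h = f h * f g := by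
  rw [← map_mul, ← map_mul, e]

theorem lfix_conj {T : Module.End (ZMod p) V} {x g : G} (hx : f x * T = T * f x)
    (hg : g ∈ lfix f T) : x * g * x⁻¹ ∈ lfix f T := by
  have hx' : f x⁻¹ * T = T * f x⁻¹ := by
    apply op_cancel x
    rw [← mul_assoc, ← map_mul, mul_inv_cancel, map_one, one_mul, ← mul_assoc, hx, mul_assoc,
      ← map_mul, mul_inv_cancel, map_one, mul_one]
  rw [mem_lfix] at hg ⊢
  rw [map_mul, map_mul, mul_assoc, hx', ← mul_assoc, mul_assoc (f x), hg, hx, mul_assoc,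
    ← map_mul, mul_inv_cancel, map_one, mul_one]

variable {K : Subgroup G}

theorem Quasi.le_of_mem (hK : Quasi K) {S : Subgroup G}
    (hS : ∀ x ∈ K, ∀ k ∈ K, k ∈ S → x * k * x⁻¹ ∈ S) {c : G} (hc : c ∈ K) (hcS : c ∈ S)
    {y : G} (hy : y ∈ K) (hcy : y * c ≠ c * y) : K ≤ S := by
  rcases hK.normal_sub (S ⊓ K) inf_le_right
    (fun x hx n hn => ⟨hS x hx n hn.2 hn.1, K.mul_mem (K.mul_mem hx hn.2) (K.inv_mem hx)⟩) with h | h
  · exact h ▸ inf_le_left
  · exact absurd (h c ⟨hcS, hc⟩ y hy) hcy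

theorem Quasi.le_of_comm (hK : Quasi K) {S : Subgroup G}
    (hS : ∀ x ∈ K, ∀ y ∈ K, x * y * x⁻¹ * y⁻¹ ∈ S) : K ≤ S := by
  rw [← hK.perfect, Subgroup.commutator_le]
  intro x hx y hy
  rw [commutatorElement_def]
  exact hS x hx y hy

/-- Either an element of the normalizer centralizes `K`, or it has a noncentral commutator. -/
theorem Quasi.exists_noncentral (hK : Quasi K) {b : G} (hb : ∀ k ∈ K, b * k * b⁻¹ ∈ K)
    {k₀ : G} (hk₀ : k₀ ∈ K) (hne : b * k₀ ≠ k₀ * b) :
    ∃ y ∈ K, ∃ x ∈ K, x * (y * b * y⁻¹ * b⁻¹) ≠ (y * b * y⁻¹ * b⁻¹) * x := by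
  by_contra h
  push Not at h
  apply hne
  have hle : K ≤ Subgroup.centralizer {b} := by
    refine hK.le_of_comm fun x hx y hy => ?_
    rw [Subgroup.mem_centralizer_singleton_iff]
    have cK : ∀ z ∈ K, z * b * z⁻¹ * b⁻¹ ∈ K := fun z hz => by
      have e : z * b * z⁻¹ * b⁻¹ = z * (b * z⁻¹ * b⁻¹) := by group
      rw [e]
      exact K.mul_mem hz (hb _ (K.inv_mem hz))
    have hmul : ∀ z ∈ K, ∀ w ∈ K,
        (z * w) * b * (z * w)⁻¹ * b⁻¹ = (w * b * w⁻¹ * b⁻¹) * (z * b * z⁻¹ * b⁻¹) := by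
      intro z hz w hw
      calc (z * w) * b * (z * w)⁻¹ * b⁻¹
          = z * (w * b * w⁻¹ * b⁻¹) * (b * z⁻¹ * b⁻¹) := by group
        _ = (w * b * w⁻¹ * b⁻¹) * z * (b * z⁻¹ * b⁻¹) := by rw [h w hw z hz]
        _ = (w * b * w⁻¹ * b⁻¹) * (z * b * z⁻¹ * b⁻¹) := by group
    have hswap : ∀ z ∈ K, ∀ w ∈ K,
        (z * w) * b * (z * w)⁻¹ * b⁻¹ = (w * z) * b * (w * z)⁻¹ * b⁻¹ := by
      intro z hz w hw
      rw [hmul z hz w hw, hmul w hw z hz, h z hz _ (cK w hw)]
    have e := hswap x hx y hy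
    have e' : (x * y) * b * (x * y)⁻¹ = (y * x) * b * (y * x)⁻¹ := mul_right_cancel e
    have h2 : ((y * x)⁻¹ * (x * y)) * b = b * ((y * x)⁻¹ * (x * y)) := by
      calc ((y * x)⁻¹ * (x * y)) * b
          = (y * x)⁻¹ * ((x * y) * b * (x * y)⁻¹) * (x * y) := by group
        _ = (y * x)⁻¹ * ((y * x) * b * (y * x)⁻¹) * (x * y) := by rw [e']
        _ = b * ((y * x)⁻¹ * (x * y)) := by group
    have h3 := congrArg (fun t => (y * x) * t * (y * x)⁻¹) h2
    have hb' : x * y * x⁻¹ * y⁻¹ * ((y * x) * b * (y * x)⁻¹)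
        = (y * x) * b * (y * x)⁻¹ * (x * y * x⁻¹ * y⁻¹) := by
      simpa [mul_assoc] using h3
    have hz := cK (y * x) (K.mul_mem hy hx)
    have hcK : x * y * x⁻¹ * y⁻¹ ∈ K :=
      K.mul_mem (K.mul_mem (K.mul_mem hx hy) (K.inv_mem hx)) (K.inv_mem hy)
    have hcz := h (y * x) (K.mul_mem hy hx) _ hcK
    have e4 : (y * x) * b * (y * x)⁻¹ = ((y * x) * b * (y * x)⁻¹ * b⁻¹) * b := by group
    rw [e4] at hb'
    revert hb' hcz
    generalize (y * x) * b * (y * x)⁻¹ * b⁻¹ = Z
    generalize x * y * x⁻¹ * y⁻¹ = C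
    intro hb' hcz
    rw [← mul_assoc, hcz, mul_assoc, mul_assoc] at hb'
    exact mul_left_cancel hb'
  exact (Subgroup.mem_centralizer_singleton_iff.1 (hle hk₀)).symm

theorem Quasi.eq_one_of_comm (hK : Quasi K) (h : ∀ k ∈ K, ∀ l ∈ K, f k * f l = f l * f k) :
    ∀ k ∈ K, f k = 1 := by
  intro k hk
  have : k ∈ lfix f 1 := by
    refine hK.le_of_comm (S := lfix f 1) (fun x hx y hy => ?_) hk
    rw [mem_lfix, mul_one]
    apply op_cancel_right (y * x)
    rw [one_mul, ← map_mul, show x * y * x⁻¹ * y⁻¹ * (y * x) = x * y by group, map_mul, map_mul,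
      h x hx y hy]
  simpa [mem_lfix] using this

theorem Quasi.fix_of_mul_zero (hK : Quasi K) {T : Module.End (ZMod p) V}
    (h : ∀ k ∈ K, ∀ l ∈ K, (f k - 1) * ((f l - 1) * T) = 0) : ∀ k ∈ K, f k * T = T := by
  have hadd : ∀ k ∈ K, ∀ l ∈ K, f (k * l) * T = f k * T + f l * T - T := by
    intro k hk l hl
    have e := h k hk l hl
    simp only [sub_mul, mul_sub, one_mul] at e
    rw [map_mul, mul_assoc]
    linear_combination (norm := abel) e
  intro k hk
  refine hK.le_of_comm (S := lfix f T) (fun x hx y hy => ?_) hk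
  rw [mem_lfix]
  have hxi := hadd x hx x⁻¹ (K.inv_mem hx)
  have hyi := hadd y hy y⁻¹ (K.inv_mem hy)
  rw [mul_inv_cancel, map_one, one_mul] at hxi hyi
  have e1 := hadd _ (K.mul_mem (K.mul_mem hx hy) (K.inv_mem hx)) y⁻¹ (K.inv_mem hy)
  rw [e1, hadd _ (K.mul_mem hx hy) x⁻¹ (K.inv_mem hx), hadd x hx y hy]
  linear_combination (norm := abel) -hxi - hyi

/-- If `(K - 1)(K - 1) = 0` then `K` acts trivially. -/
theorem Quasi.eq_one_of_sq (hK : Quasi K)
    (h : ∀ k ∈ K, ∀ l ∈ K, (f k - 1) * (f l - 1) = 0) : ∀ k ∈ K, f k = 1 := by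
  intro k hk
  simpa using hK.fix_of_mul_zero (T := 1) (fun a ha b hb => by rw [mul_one, h a ha b hb]) k hk

theorem Quasi.eq_one_of_exp (hK : Quasi K) [Finite G]
    (h : ∀ k ∈ K, ∀ l ∈ K, f (k ^ 12) * f l = f l * f (k ^ 12)) : ∀ k ∈ K, f k = 1 := by
  let q : ↥K →* (Module.End (ZMod p) V)ˣ := (f.toHomUnits).comp K.subtype
  have hperf : Group.IsPerfect ↥K := Subgroup.isPerfect_iff.2 hK.perfect
  let P := q.range
  have : Group.IsPerfect ↥P := Group.IsPerfect.ofSurjective (f := q.rangeRestrict)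
    q.rangeRestrict_surjective
  have : Finite ↥P := Finite.of_surjective _ q.rangeRestrict_surjective
  let Q := ↥P ⧸ Subgroup.center ↥P
  have : Group.IsPerfect Q := Group.IsPerfect.ofSurjective
    (f := QuotientGroup.mk' (Subgroup.center ↥P)) (QuotientGroup.mk'_surjective _)
  have hexp : ∀ z : Q, z ^ 12 = 1 := by
    intro z
    obtain ⟨z, rfl⟩ := QuotientGroup.mk'_surjective _ z
    obtain ⟨k, rfl⟩ := q.rangeRestrict_surjective z
    rw [← map_pow, ← map_pow, QuotientGroup.mk'_apply, QuotientGroup.eq_one_iff,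
      Subgroup.mem_center_iff]
    intro w
    obtain ⟨l, rfl⟩ := q.rangeRestrict_surjective w
    refine Subtype.ext (Units.ext ?_)
    simp only [Subgroup.coe_mul, MonoidHom.coe_rangeRestrict, Units.val_mul]
    show f (l : G) * f ((k ^ 12 : ↥K) : G) = f ((k ^ 12 : ↥K) : G) * f (l : G)
    rw [SubgroupClass.coe_pow]
    exact (h k k.2 l l.2).symm
  have hsol : Group.IsSolvable Q := by
    have hne : Nat.card Q ≠ 0 := Nat.card_pos.ne'
    have hsub : (Nat.card Q).primeFactors ⊆ {2, 3} := by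
      intro r hr
      obtain ⟨hrp, hrd, -⟩ := Nat.mem_primeFactors.1 hr
      have := Fact.mk hrp
      obtain ⟨z, hz⟩ := exists_prime_orderOf_dvd_card' r hrd
      have hd : r ∣ 2 ^ 2 * 3 := hz ▸ orderOf_dvd_of_pow_eq_one (hexp z)
      rcases (Nat.Prime.dvd_mul hrp).1 hd with h2 | h3
      · simp [(Nat.prime_dvd_prime_iff_eq hrp Nat.prime_two).1 (hrp.dvd_of_dvd_pow h2)]
      · simp [(Nat.prime_dvd_prime_iff_eq hrp Nat.prime_three).1 h3]
    refine Cfsg.Agent.Characters.burnside_pa_qb (p := 2) (q := 3)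
      (a := (Nat.card Q).factorization 2) (b := (Nat.card Q).factorization 3)
      Nat.prime_two Nat.prime_three ?_
    conv_lhs => rw [← Nat.prod_factorization_pow_eq_self hne]
    rw [Nat.prod_factorization_eq_prod_primeFactors,
      Finset.prod_subset hsub (fun r _ hr => by
        rw [← Nat.support_factorization, Finsupp.notMem_support_iff] at hr
        rw [hr, pow_zero]),
      Finset.prod_pair (by norm_num)]
  have hsub : Subsingleton Q := by
    by_contra hns
    rw [not_subsingleton_iff_nontrivial] at hns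
    exact Group.IsPerfect.not_isSolvable Q hsol
  apply hK.eq_one_of_comm
  intro k hk l hl
  have hc : q.rangeRestrict ⟨k, hk⟩ ∈ Subgroup.center ↥P :=
    (QuotientGroup.eq_one_iff _).1 (Subsingleton.elim _ _)
  have e := Subgroup.mem_center_iff.1 hc (q.rangeRestrict ⟨l, hl⟩)
  exact (congrArg (fun z : ↥P => ((z : (Module.End (ZMod p) V)ˣ) : Module.End (ZMod p) V)) e).symm

end Cfsg.Lib.Offender
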