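import Cfsg.Agent.Lib.Offender.Setup

/-!
Passing to invariant subgroups and submodules.
-/

set_option autoImplicit false

namespace Cfsg.Lib.Offender

variable {p : ℕ} {G V : Type*} [Group G] [AddCommGroup V] [Module (ZMod p) V]

theorem invariant_of_sup (f : Representation (ZMod p) G V) {K A : Subgroup G}
    {W : Submodule (ZMod p) V} (hK : ∀ k ∈ K, ∀ w ∈ W, f k w ∈ W)
    (hA : ∀ a ∈ A, ∀ w ∈ W, f a w ∈ W) : ∀ g ∈ K ⊔ A, W ≤ W.comap (f g) := by
  let S : Subgroup G :=
    { carrier := {g | (∀ w ∈ W, f g w ∈ W) ∧ ∀ w ∈ W, f g⁻¹ w ∈ W}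
      one_mem' := ⟨fun w hw => by simpa using hw, fun w hw => by simpa using hw⟩
      mul_mem' := fun {g h} hg hh => ⟨fun w hw => by
          rw [map_mul, Module.End.mul_apply]; exact hg.1 _ (hh.1 w hw), fun w hw => by
          rw [mul_inv_rev, map_mul, Module.End.mul_apply]; exact hh.2 _ (hg.2 w hw)⟩
      inv_mem' := fun {g} hg => ⟨hg.2, fun w hw => by rw [inv_inv]; exact hg.1 w hw⟩ }
  have h : K ⊔ A ≤ S := sup_le (fun k hk => ⟨hK k hk, hK _ (K.inv_mem hk)⟩)
    fun a ha => ⟨hA a ha, hA _ (A.inv_mem ha)⟩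
  intro g hg w hw
  exact (h hg).1 w hw

theorem Quasi.subgroupOf {K L : Subgroup G} (hK : Quasi K) (h : K ≤ L) :
    Quasi (K.subgroupOf L) where
  perfect := Subgroup.map_injective L.subtype_injective (by
    rw [Subgroup.map_commutator, Subgroup.map_subgroupOf_eq_of_le h, hK.perfect])
  normal_sub N hN hnorm := by
    rcases hK.normal_sub (N.map L.subtype) (by
        rintro _ ⟨n, hn, rfl⟩; exact hN hn)
      (by
        rintro x hx _ ⟨n, hn, rfl⟩
        exact ⟨⟨x, h hx⟩ * n * ⟨x, h hx⟩⁻¹, hnorm ⟨x, h hx⟩ hx n hn, rfl⟩) with e | e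
    · left
      exact Subgroup.map_injective L.subtype_injective
        (e.trans (Subgroup.map_subgroupOf_eq_of_le h).symm)
    · right
      intro n hn x hx
      exact Subtype.ext (e n ⟨n, hn, rfl⟩ x hx)

theorem Pair.subgroupOf {K A L : Subgroup G} (hP : Pair p K A) (hK : K ≤ L) :
    Pair p (K.subgroupOf L) (A.subgroupOf L) where
  quasi := hP.quasi.subgroupOf hK
  comm a ha b hb := Subtype.ext (hP.comm a ha b hb)
  exp a ha := Subtype.ext (hP.exp a ha)
  move g hg := (hP.move g hg).imp (fun h k hk => h k hk)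
    fun h k hk l hl => Subtype.ext (h k hk l hl)

theorem mem_stab_subgroupOf {K A L : Subgroup G} (hK : K ≤ L) (g : ↥L) :
    g ∈ stab (K.subgroupOf L) (A.subgroupOf L) ↔ (g : G) ∈ stab K A := by
  constructor
  · rintro ⟨h1, h2, h3⟩
    exact ⟨h1, fun k hk => h2 ⟨k, hK hk⟩ hk, fun k hk => h3 ⟨k, hK hk⟩ hk⟩
  · rintro ⟨h1, h2, h3⟩
    exact ⟨h1, fun k hk => h2 k hk, fun k hk => h3 k hk⟩

theorem card_subgroupOf {B L : Subgroup G} (h : B ≤ L) :
    Nat.card ↥(B.subgroupOf L) = Nat.card ↥B :=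
  Nat.card_congr (Subgroup.subgroupOfEquivOfLe h).toEquiv

/-- The restriction of a representation to a subgroup and an invariant submodule. -/
noncomputable def sub (f : Representation (ZMod p) G V) (L : Subgroup G) (W : Submodule (ZMod p) V)
    (h : ∀ g ∈ L, W ≤ W.comap (f g)) : Representation (ZMod p) ↥L ↥W :=
  Representation.subrepresentation (f.comp L.subtype) W fun g => h g g.2

theorem sub_apply {f : Representation (ZMod p) G V} {L : Subgroup G} {W : Submodule (ZMod p) V}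
    {h : ∀ g ∈ L, W ≤ W.comap (f g)} (g : ↥L) (w : ↥W) : (sub f L W h g w : V) = f g w := rfl

theorem exists_fixed_vector [Fact p.Prime] [Finite V] {f : Representation (ZMod p) G V}
    {A : Subgroup G} (he : ∀ a ∈ A, a ^ p = 1) {W : Submodule (ZMod p) V}
    (hW : ∀ a ∈ A, ∀ w ∈ W, f a w ∈ W) (hne : W ≠ ⊥) :
    ∃ x ∈ W, x ≠ 0 ∧ ∀ a ∈ A, f a x = x := by
  let act : MulAction ↥A ↥W :=
    { smul := fun g w => ⟨f g w, hW g g.2 w w.2⟩
      one_smul := fun w => Subtype.ext (show f 1 (w : V) = w by rw [map_one, Module.End.one_apply])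
      mul_smul := fun g g' w => Subtype.ext (show f ((g : G) * g') (w : V) = f g (f g' w) by
        rw [map_mul, Module.End.mul_apply]) }
  have hp : IsPGroup p ↥A := fun g => ⟨1, by rw [pow_one]; exact Subtype.ext (he g g.2)⟩
  obtain ⟨w, hw, hw0⟩ := Submodule.exists_mem_ne_zero_of_ne_bot hne
  have hdvd : p ∣ Nat.card ↥W := by
    have : addOrderOf (⟨w, hw⟩ : ↥W) = p := addOrderOf_eq_prime
      (by rw [← Nat.cast_smul_eq_nsmul (ZMod p), ZMod.natCast_self, zero_smul])
      (fun e => hw0 (congrArg Subtype.val e))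
    calc p ∣ addOrderOf (⟨w, hw⟩ : ↥W) := (Eq.symm this).dvd
      _ ∣ _ := addOrderOf_dvd_natCard _
  obtain ⟨b, hb, hb0⟩ := hp.exists_fixed_point_of_prime_dvd_card_of_fixed_point ↥W hdvd (a := 0)
    (fun g => Subtype.ext (map_zero (f g)))
  exact ⟨b, b.2, fun e => hb0 (Subtype.ext e.symm), fun a ha => congrArg Subtype.val (hb ⟨a, ha⟩)⟩

end Cfsg.Lib.Offender
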