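import Cfsg.Agent.Lib.Offender.Base
import Cfsg.Agent.Lib.Offender.Restrict

/-!
If the diagonal of `K × aKa⁻¹` fixes `(a - 1)V` then `A` is no offender.
-/

set_option autoImplicit false

namespace Cfsg.Lib.Offender

variable {G V : Type*} [Group G] [AddCommGroup V] [Module (ZMod 2) V]
variable {f : Representation (ZMod 2) G V} {K A : Subgroup G}

theorem card_pow_le {n c s : ℕ} (hn : 2 ≤ n) (hs : 0 < s) (h : n ^ s ≤ s * c) : n ≤ c := by
  obtain ⟨k, rfl⟩ : ∃ k, s = k + 1 := ⟨s - 1, by omega⟩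
  have h2 : (k + 1) * n ≤ n ^ (k + 1) := by
    rw [pow_succ]; exact Nat.mul_le_mul_right _ (Nat.lt_pow_self hn)
  exact Nat.le_of_mul_le_mul_left (h2.trans h) k.succ_pos

theorem irreducible_core_false [Finite G] [Finite V] (hP : Pair 2 K A) {a : G} (ha : a ∈ A)
    (hmove : a ∉ stab K A) (hd : ∀ k ∈ K, f (diag a k) * (f a - 1) = f a - 1)
    (hnt : ∃ k ∈ K, f k ≠ 1)
    (hirr : ∀ W : Submodule (ZMod 2) V, (∀ k ∈ K, ∀ w ∈ W, f k w ∈ W) →
      (∀ b ∈ A, ∀ w ∈ W, f b w ∈ W) → W ≠ ⊥ → W = ⊤)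
    (hbound : Nat.card V * Nat.card ↥(A ⊓ f.ker) ≤ Nat.card ↥A * Nat.card ↥(fixed f A)) :
    False := by
  classical
  have haa := sq_eq_one hP ha
  have hai := inv_eq_self hP ha
  -- the stabilizer of the pair
  let A₁ : Subgroup G :=
    { carrier := {g | g ∈ A ∧ (g ∈ stab K A ∨ a * g ∈ stab K A)}
      one_mem' := ⟨A.one_mem, Or.inl (one_mem _)⟩
      mul_mem' := fun {g h} hg hh => ⟨A.mul_mem hg.1 hh.1, by
        rcases hg.2 with h1 | h1 <;> rcases hh.2 with h2 | h2
        · exact Or.inl ((stab K A).mul_mem h1 h2)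
        · right
          have := (stab K A).mul_mem h1 h2
          rwa [← mul_assoc, hP.comm g hg.1 a ha, mul_assoc] at this
        · right
          have := (stab K A).mul_mem h1 h2
          rwa [mul_assoc] at this
        · left
          have := (stab K A).mul_mem h1 h2
          rwa [mul_assoc, ← mul_assoc g, hP.comm g hg.1 a ha, ← mul_assoc, ← mul_assoc, haa,
            one_mul] at this⟩
      inv_mem' := fun {g} hg => by
        rw [show g⁻¹ = g from inv_eq_self hP hg.1]; exact hg }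
  have hA1A : A₁ ≤ A := fun g hg => hg.1
  have haA1 : a ∈ A₁ := ⟨ha, Or.inr (by rw [haa]; exact one_mem _)⟩
  have happ : ∀ (g h : G) (v : V), f (g * h) v = f g (f h v) := fun g h v => by
    rw [map_mul, Module.End.mul_apply]
  have hcancel : ∀ (g : G) (v : V), f g⁻¹ (f g v) = v := fun g v => by
    rw [← happ, inv_mul_cancel, map_one, Module.End.one_apply]
  have hconj : ∀ (g k : G) (v : V), f g (f k v) = f (g * k * g⁻¹) (f g v) := fun g k v => by
    rw [← happ, ← happ]; congr 2; group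
  -- nothing is fixed by every conjugate
  have hW0 : ∀ v : V, (∀ g ∈ A, ∀ k ∈ K, f (g * k * g⁻¹) v = v) → v = 0 := by
    intro v hv
    by_contra hv0
    let W : Submodule (ZMod 2) V :=
      { carrier := {v | ∀ g ∈ A, ∀ k ∈ K, f (g * k * g⁻¹) v = v}
        add_mem' := fun {u w} hu hw g hg k hk => by rw [map_add, hu g hg k hk, hw g hg k hk]
        zero_mem' := fun g _ k _ => map_zero _
        smul_mem' := fun c u hu g hg k hk => by rw [map_smul, hu g hg k hk] }
    have hK1 : ∀ k ∈ K, ∀ w ∈ W, f k w = w := fun k hk w hw => by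
      simpa using hw 1 A.one_mem k hk
    have hW : W = ⊤ := by
      refine hirr W (fun k hk w hw => by rw [hK1 k hk w hw]; exact hw) (fun b hb w hw g hg k hk => ?_)
        fun e => hv0 (by
          have h' : v ∈ W := hv
          rwa [e, Submodule.mem_bot] at h')
      have := hw (b⁻¹ * g) (A.mul_mem (A.inv_mem hb) hg) k hk
      conv_rhs => rw [← this]
      rw [← happ, ← happ]; congr 2; group
    obtain ⟨k, hk, hne⟩ := hnt
    refine hne (LinearMap.ext fun w => ?_)
    rw [Module.End.one_apply]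
    exact hK1 k hk w (hW ▸ Submodule.mem_top)
  -- the span of the two commutator spaces
  let Y : Submodule (ZMod 2) V := Submodule.span (ZMod 2)
    {u | ∃ k ∈ K, ∃ v, f k v - v = u ∨ f (a * k * a⁻¹) v - v = u}
  have hY1 : ∀ k ∈ K, ∀ v, f k v - v ∈ Y := fun k hk v =>
    Submodule.subset_span ⟨k, hk, v, Or.inl rfl⟩
  have hY2 : ∀ k ∈ K, ∀ v, f (a * k * a⁻¹) v - v ∈ Y := fun k hk v =>
    Submodule.subset_span ⟨k, hk, v, Or.inr rfl⟩
  have hYK : ∀ k ∈ K, ∀ w ∈ Y, f k w ∈ Y := fun k hk w hw => by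
    simpa using Y.add_mem (hY1 k hk w) hw
  have hYstab : ∀ b ∈ stab K A, ∀ w ∈ Y, f b w ∈ Y := by
    intro b hb w hw
    refine (Submodule.span_le.2 ?_ : Y ≤ Y.comap (f b)) hw
    rintro _ ⟨k, hk, v, rfl | rfl⟩
    · show f b (f k v - v) ∈ Y
      rw [map_sub, hconj]; exact hY1 _ (conj_mem_of_stab hb hk) _
    · show f b (f (a * k * a⁻¹) v - v) ∈ Y
      rw [map_sub, hconj, show b * (a * k * a⁻¹) * b⁻¹ = (b * a) * k * (b * a)⁻¹ by group,
        hP.comm b hb.1 a ha, show (a * b) * k * (a * b)⁻¹ = a * (b * k * b⁻¹) * a⁻¹ by group]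
      exact hY2 _ (conj_mem_of_stab hb hk) _
  have hYa : ∀ w ∈ Y, f a w ∈ Y := by
    intro w hw
    refine (Submodule.span_le.2 ?_ : Y ≤ Y.comap (f a)) hw
    rintro _ ⟨k, hk, v, rfl | rfl⟩
    · show f a (f k v - v) ∈ Y
      rw [map_sub, hconj]; exact hY2 k hk _
    · show f a (f (a * k * a⁻¹) v - v) ∈ Y
      rw [map_sub, hconj, hai, show a * (a * k * a) * a = (a * a) * k * (a * a) by group, haa,
        one_mul, mul_one]
      exact hY1 k hk _
  have hYA1 : ∀ b ∈ A₁, ∀ w ∈ Y, f b w ∈ Y := by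
    intro b hb w hw
    rcases hb.2 with h | h
    · exact hYstab b h w hw
    · rw [show b = a * (a * b) by rw [← mul_assoc, haa, one_mul], happ]
      exact hYa _ (hYstab _ h w hw)
  -- conjugates outside the pair act trivially there
  have hthird : ∀ g ∈ A, g ∉ A₁ → ∀ l ∈ K, ∀ w ∈ Y, f (g * l * g⁻¹) w = w := by
    intro g hg hg1 l hl
    have hg0 : g ∉ stab K A := fun h => hg1 ⟨hg, Or.inl h⟩
    have hga : a * g ∉ stab K A := fun h => hg1 ⟨hg, Or.inr h⟩
    have hcy : ∀ k ∈ K, ∀ y ∈ cj K g, Commute (diag a k) y := by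
      intro k hk y hy
      obtain ⟨m, hm, rfl⟩ := exists_of_mem_cj hy
      exact Commute.mul_left (hP.commutes hg hg0 hm hk).symm
        (hP.commutes₂ ha hg (by rwa [hai]) hk hm)
    have hq := hP.quasi.cj g
    -- `(d - 1) y = (d - 1) a y a`
    have key : ∀ k ∈ K, ∀ y ∈ cj K g, (f (diag a k) - 1) * f y =
        (f (diag a k) - 1) * f (a * y * a⁻¹) := by
      intro k hk y hy
      have hda : (f (diag a k) - 1) * f a = f (diag a k) - 1 := by
        rw [← sub_eq_zero]
        linear_combination (norm := noncomm_ring) hd k hk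
      have c1 : f y * f (diag a k) = f (diag a k) * f y := (map_comm (hcy k hk y hy).eq).symm
      have e1 : (f (diag a k) - 1) * f y = f y * (f (diag a k) - 1) := by
        rw [sub_mul, mul_sub, c1, one_mul, mul_one]
      calc (f (diag a k) - 1) * f y = f y * ((f (diag a k) - 1) * f a) := by rw [hda, e1]
        _ = (f (diag a k) - 1) * f y * f a := by rw [e1, mul_assoc]
        _ = (f (diag a k) - 1) * f a * f (a * y * a⁻¹) := by
          rw [mul_assoc, mul_assoc, ← map_mul, ← map_mul]; congr 2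
          rw [hai, ← mul_assoc a (a * y) a, ← mul_assoc a a y, haa, one_mul]
        _ = _ := by rw [hda]
    have hlfix : ∀ k ∈ K, ∀ y ∈ cj K g, f y * (f (diag a k) - 1) = f (diag a k) - 1 := by
      intro k hk y hy
      refine hq.le_of_comm (S := lfix f (f (diag a k) - 1)) (fun u hu w hw => ?_) hy
      rw [mem_lfix]
      have hc : ∀ z ∈ cj K g, f z * (f (diag a k) - 1) = (f (diag a k) - 1) * f z := fun z hz => by
        rw [sub_mul, mul_sub, (map_comm (hcy k hk z hz).eq).symm, one_mul, mul_one]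
      have hcu : Commute u (a * w * a⁻¹) := by
        obtain ⟨m, hm, rfl⟩ := exists_of_mem_cj hu
        obtain ⟨n, hn, rfl⟩ := exists_of_mem_cj hw
        rw [show a * (g * n * g⁻¹) * a⁻¹ = (a * g) * n * (a * g)⁻¹ by group]
        refine hP.commutes₂ hg (A.mul_mem ha hg) ?_ hm hn
        rw [← mul_assoc, hP.comm g⁻¹ (A.inv_mem hg) a ha, mul_assoc, inv_mul_cancel, mul_one]
        exact hmove
      have huwu := Subgroup.mul_mem _ (Subgroup.mul_mem _ hu hw) (inv_mem hu)
      rw [hc _ (Subgroup.mul_mem _ huwu (inv_mem hw)), map_mul, ← mul_assoc]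
      have e : (f (diag a k) - 1) * f (u * w * u⁻¹) = (f (diag a k) - 1) * f w := by
        calc (f (diag a k) - 1) * f (u * w * u⁻¹)
            = f u * ((f (diag a k) - 1) * f w) * f u⁻¹ := by
              rw [← mul_assoc, hc u hu, map_mul, map_mul]; noncomm_ring
          _ = f u * ((f (diag a k) - 1) * f (a * w * a⁻¹)) * f u⁻¹ := by rw [key k hk w hw]
          _ = (f (diag a k) - 1) * f (u * (a * w * a⁻¹) * u⁻¹) := by
              rw [← mul_assoc, hc u hu, map_mul f (u * _), map_mul f u]; noncomm_ring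
          _ = (f (diag a k) - 1) * f (a * w * a⁻¹) := by
              rw [hcu.eq, mul_inv_cancel_right]
          _ = _ := (key k hk w hw).symm
      rw [e, mul_assoc, ← map_mul, mul_inv_cancel, map_one, mul_one]
    have hcK : ∀ k ∈ K, ∀ y ∈ cj K g, f k * (f y - 1) = f y - 1 := by
      intro k hk y hy
      refine hP.quasi.le_of_comm (S := lfix f (f y - 1)) (fun u hu w hw => ?_) hk
      rw [mem_lfix]
      have z : ∀ m ∈ K, f m * (f (a * m * a⁻¹) * (f y - 1)) = f y - 1 := by
        intro m hm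
        have := hlfix m hm y hy
        have c1 := map_comm (f := f) (hcy m hm y hy).eq
        rw [← mul_assoc, ← map_mul]
        change f (diag a m) * (f y - 1) = f y - 1
        linear_combination (norm := noncomm_ring) this + c1
      set T := f y - 1
      have hu' : f (a * w * a⁻¹) * f u = f u * f (a * w * a⁻¹) :=
        map_comm (hP.commutes ha hmove hw hu)
      have hui : f (a * w * a⁻¹) * f u⁻¹ = f u⁻¹ * f (a * w * a⁻¹) :=
        map_comm (hP.commutes ha hmove hw (K.inv_mem hu))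
      have hTu : f u⁻¹ * T = T * f u⁻¹ := by
        obtain ⟨m, hm, rfl⟩ := exists_of_mem_cj hy
        exact Commute.sub_right
          (map_comm (hP.commutes hg hg0 hm (K.inv_mem hu)).symm : f u⁻¹ * f (g * m * g⁻¹) = _)
          (Commute.one_right _)
      have e1 : f (u * w * u⁻¹) * (f (a * w * a⁻¹) * T) = T := by
        calc f (u * w * u⁻¹) * (f (a * w * a⁻¹) * T)
            = f u * f w * (f (a * w * a⁻¹) * f u⁻¹) * T := by
              rw [map_mul, map_mul, hui]; noncomm_ring
          _ = f u * (f w * (f (a * w * a⁻¹) * T)) * f u⁻¹ := by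
              simp only [mul_assoc]; rw [hTu]
          _ = f u * T * f u⁻¹ := by rw [z w hw]
          _ = T := by
              rw [mul_assoc, ← hTu, ← mul_assoc, ← map_mul, mul_inv_cancel, map_one, one_mul]
      -- the same element moves `aTwa⁻¹` to `T`
      have hmid : f (a * w * a⁻¹) * T = f w⁻¹ * T := by
        conv_rhs => rw [← z w hw]
        rw [← mul_assoc (f w⁻¹), ← map_mul, inv_mul_cancel, map_one, one_mul]
      rw [hmid, ← mul_assoc, ← map_mul] at e1
      exact e1
    intro w hw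
    obtain ⟨y, hy, hye⟩ : ∃ y ∈ cj K g, y = g * l * g⁻¹ := ⟨_, mem_cj hl, rfl⟩
    rw [← hye]
    refine (Submodule.span_le.2 ?_ : Y ≤ LinearMap.ker (f y - 1)) hw |> fun h => by
      rwa [LinearMap.mem_ker, LinearMap.sub_apply, Module.End.one_apply, sub_eq_zero] at h
    rintro _ ⟨k, hk, v, rfl | rfl⟩
    · have hc : f y * f k = f k * f y := by
        obtain ⟨m, hm, rfl⟩ := exists_of_mem_cj hy
        exact map_comm (hP.commutes hg hg0 hm hk)
      have e := hcK k hk y hy
      show (f y - 1) (f k v - v) = 0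
      have : ((f y - 1) * (f k - 1)) v = 0 := by
        rw [show (f y - 1) * (f k - 1) = 0 by linear_combination (norm := noncomm_ring) hc + e]
        rfl
      simpa using this
    · have hc : f y * f (a * k * a⁻¹) = f (a * k * a⁻¹) * f y := by
        obtain ⟨m, hm, rfl⟩ := exists_of_mem_cj hy
        exact map_comm (hP.commutes₂ ha hg (by rwa [hai]) hk hm).symm
      have e : f (a * k * a⁻¹) * (f y - 1) = f y - 1 := by
        have h1 := hcK k hk y hy
        have h2 := hlfix k hk y hy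
        have c1 := map_comm (f := f) (hcy k hk y hy).eq
        have h3 : f k * f (a * k * a⁻¹) * (f y - 1) = f k * (f y - 1) := by
          rw [h1, ← map_mul]
          change f (diag a k) * (f y - 1) = f y - 1
          linear_combination (norm := noncomm_ring) h2 + c1
        rw [mul_assoc] at h3
        exact op_cancel k h3
      show (f y - 1) (f (a * k * a⁻¹) v - v) = 0
      have : ((f y - 1) * (f (a * k * a⁻¹) - 1)) v = 0 := by
        rw [show (f y - 1) * (f (a * k * a⁻¹) - 1) = 0 by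
          linear_combination (norm := noncomm_ring) hc + e]
        rfl
      simpa using this
  -- the cyclic submodule
  have hFY : Y.map (f a - 1) ≠ ⊥ := by
    intro e
    have hfix : ∀ w ∈ Y, f a w = w := by
      intro w hw
      have : (f a - 1) w ∈ Y.map (f a - 1) := Submodule.mem_map_of_mem hw
      rw [e, Submodule.mem_bot, LinearMap.sub_apply, Module.End.one_apply, sub_eq_zero] at this
      exact this
    have hsame : ∀ k ∈ K, ∀ w ∈ Y, f (a * k * a⁻¹) w = f k w := by
      intro k hk w hw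
      conv_lhs => rw [← hfix w hw, ← happ, inv_mul_cancel_right, happ, hfix _ (hYK k hk w hw)]
    obtain ⟨k₀, hk₀, hne⟩ := hnt
    refine hne (hP.quasi.eq_one_of_sq (fun k hk m hm => ?_) k₀ hk₀)
    rw [sub_mul, one_mul, sub_eq_zero]
    refine hP.quasi.le_of_comm (S := lfix f (f m - 1)) (fun u hu w hw => ?_) hk
    rw [mem_lfix]
    have hcomm : f u * f w * (f m - 1) = f w * f u * (f m - 1) := by
      refine LinearMap.ext fun v => ?_
      have hy := hY1 m hm v
      simp only [Module.End.mul_apply, LinearMap.sub_apply, Module.End.one_apply]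
      conv_lhs => rw [← hsame w hw _ hy, ← happ, ← hP.commutes ha hmove hw hu, happ,
        hsame w hw _ (hYK u hu _ hy)]
    apply LinearMap.ext
    intro v
    have h2 := LinearMap.congr_fun hcomm (f (w * u)⁻¹ v)
    have hy : ∀ z : V, (f m - 1) z ∈ Y := fun z => by simpa using hY1 m hm z
    -- commutators fix `Y`
    have hfix2 : ∀ z ∈ Y, f (u * w * u⁻¹ * w⁻¹) z = z := by
      intro z hz
      have hz' : f (w⁻¹) z ∈ Y := hYK _ (K.inv_mem hw) z hz
      have hz'' : f u⁻¹ (f w⁻¹ z) ∈ Y := hYK _ (K.inv_mem hu) _ hz'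
      rw [happ, happ, happ]
      rw [← hsame w hw _ hz'', ← happ u, ← hP.commutes ha hmove hw hu, happ,
        hsame w hw _ (hYK u hu _ hz''), ← happ u, mul_inv_cancel, map_one, Module.End.one_apply,
        ← happ, mul_inv_cancel, map_one, Module.End.one_apply]
    rw [Module.End.mul_apply, hfix2 _ (hy v)]
  obtain ⟨x, hxFY, hx0, hxA⟩ := exists_fixed_vector (f := f) (A := A₁)
    (fun b hb => hP.exp b hb.1) (W := Y.map (f a - 1)) (by
      rintro b hb _ ⟨w, hw, rfl⟩
      refine ⟨f b w, hYA1 b hb w hw, ?_⟩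
      rw [LinearMap.sub_apply, LinearMap.sub_apply, map_sub, Module.End.one_apply,
        Module.End.one_apply, ← happ, ← happ, hP.comm a ha b hb.1]) hFY
  have hxY : x ∈ Y := by
    obtain ⟨w, hw, rfl⟩ := hxFY
    simpa using Y.sub_mem (hYa w hw) hw
  have hxd : ∀ k ∈ K, f (diag a k) x = x := by
    intro k hk
    obtain ⟨w, hw, rfl⟩ := hxFY
    rw [← Module.End.mul_apply, hd k hk]
  let N : Submodule (ZMod 2) V := Submodule.span (ZMod 2) {u | ∃ k ∈ K, f k x = u}
  have hxN : x ∈ N := Submodule.subset_span ⟨1, K.one_mem, by simp⟩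
  have hNY : N ≤ Y := Submodule.span_le.2 (by rintro _ ⟨k, hk, rfl⟩; exact hYK k hk x hxY)
  have hNK : ∀ k ∈ K, ∀ w ∈ N, f k w ∈ N := by
    intro k hk w hw
    refine (Submodule.span_le.2 ?_ : N ≤ N.comap (f k)) hw
    rintro _ ⟨l, hl, rfl⟩
    exact Submodule.subset_span ⟨k * l, K.mul_mem hk hl, happ k l x⟩
  have hNA1 : ∀ b ∈ A₁, ∀ w ∈ N, f b w ∈ N := by
    have hst : ∀ b ∈ stab K A, ∀ w ∈ N, f b w ∈ N := by
      intro b hb w hw
      refine (Submodule.span_le.2 ?_ : N ≤ N.comap (f b)) hw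
      rintro _ ⟨l, hl, rfl⟩
      refine Submodule.subset_span ⟨_, conj_mem_of_stab hb hl, ?_⟩
      rw [hconj b l x, hxA b ⟨hb.1, Or.inl hb⟩]
    have hstA : ∀ w ∈ N, f a w ∈ N := by
      intro w hw
      refine (Submodule.span_le.2 ?_ : N ≤ N.comap (f a)) hw
      rintro _ ⟨l, hl, rfl⟩
      refine Submodule.subset_span ⟨l⁻¹, K.inv_mem hl, ?_⟩
      rw [hconj a l x, hxA a haA1]
      conv_lhs => rw [← hxd l hl, diag, ← happ, inv_mul_cancel_left]
    intro b hb w hw
    rcases hb.2 with h | h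
    · exact hst b h w hw
    · rw [show b = a * (a * b) by rw [← mul_assoc, haa, one_mul], happ]
      exact hstA _ (hst _ h w hw)
  let Rest : Submodule (ZMod 2) V :=
    Submodule.span (ZMod 2) {u | ∃ g ∈ A, g ∉ A₁ ∧ ∃ n ∈ N, f g n = u}
  have hRestfix : ∀ h ∈ A₁, ∀ k ∈ K, ∀ w ∈ Rest, f (h * k * h⁻¹) w = w := by
    intro h hh k hk w hw
    have := (Submodule.span_le.2 ?_ : Rest ≤ LinearMap.ker (f (h * k * h⁻¹) - 1)) hw
    · rwa [LinearMap.mem_ker, LinearMap.sub_apply, Module.End.one_apply, sub_eq_zero] at this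
    rintro _ ⟨g, hg, hg1, n, hn, rfl⟩
    show (f (h * k * h⁻¹) - 1) (f g n) = 0
    rw [LinearMap.sub_apply, Module.End.one_apply, sub_eq_zero, ← happ,
      show h * k * h⁻¹ * g = g * ((g⁻¹ * h) * k * (g⁻¹ * h)⁻¹) by group, happ,
      hthird _ (A.mul_mem (A.inv_mem hg) hh.1) (fun h' => hg1 (by
        have := A₁.inv_mem (A₁.mul_mem h' (A₁.inv_mem hh))
        simpa using this)) k hk n (hNY hn)]
  have hdisj : ∀ v ∈ N, v ∈ Rest → v = 0 := by
    intro v hN hR
    refine hW0 v fun g hg k hk => ?_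
    by_cases hg1 : g ∈ A₁
    · exact hRestfix g hg1 k hk v hR
    · exact hthird g hg hg1 k hk v (hNY hN)
  have hRK : ∀ k ∈ K, ∀ w ∈ Rest, f k w = w := fun k hk w hw => by
    simpa using hRestfix 1 A₁.one_mem k hk w hw
  -- generation by an invariant part of `N`
  have hgenerate : ∀ N₀ : Submodule (ZMod 2) V, N₀ ≤ N → N₀ ≠ ⊥ →
      (∀ k ∈ K, ∀ w ∈ N₀, f k w ∈ N₀) → (∀ b ∈ A₁, ∀ w ∈ N₀, f b w ∈ N₀) →
      N₀ ⊔ Submodule.span (ZMod 2) {u | ∃ g ∈ A, g ∉ A₁ ∧ ∃ n ∈ N₀, f g n = u} = ⊤ := by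
    intro N₀ hle hne hK0 hA0
    set R₀ := Submodule.span (ZMod 2) {u | ∃ g ∈ A, g ∉ A₁ ∧ ∃ n ∈ N₀, f g n = u}
    have hR0 : R₀ ≤ Rest := Submodule.span_mono (by
      rintro u ⟨g, hg, hg1, n, hn, e⟩; exact ⟨g, hg, hg1, n, hle hn, e⟩)
    refine hirr _ ?_ ?_ fun e => hne (eq_bot_iff.2 (le_sup_left.trans e.le))
    · intro k hk w hw
      obtain ⟨u, hu, r, hr, rfl⟩ := Submodule.mem_sup.1 hw
      rw [map_add, hRK k hk r (hR0 hr)]
      exact Submodule.add_mem _ (Submodule.mem_sup_left (hK0 k hk u hu)) (Submodule.mem_sup_right hr)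
    · intro b hb w hw
      have hone : ∀ g ∈ A, ∀ n ∈ N₀, f g n ∈ N₀ ⊔ R₀ := by
        intro g hg n hn
        by_cases h : g ∈ A₁
        · exact Submodule.mem_sup_left (hA0 g h n hn)
        · exact Submodule.mem_sup_right (Submodule.subset_span ⟨g, hg, h, n, hn, rfl⟩)
      refine (sup_le (fun n hn => hone b hb n hn) (Submodule.span_le.2 ?_) :
        N₀ ⊔ R₀ ≤ (N₀ ⊔ R₀).comap (f b)) hw
      rintro _ ⟨g, hg, -, n, hn, rfl⟩
      simp only [SetLike.mem_coe, Submodule.mem_comap]
      rw [← happ]; exact hone _ (A.mul_mem hb hg) n hn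
  have hNne : N ≠ ⊥ := fun e => hx0 ((Submodule.mem_bot _).1 (e ▸ hxN))
  have htop : N ⊔ Rest = ⊤ := hgenerate N le_rfl hNne hNK hNA1
  have hdec : ∀ v : V, ∃ n ∈ N, ∃ r ∈ Rest, n + r = v := fun v =>
    Submodule.mem_sup.1 (htop ▸ Submodule.mem_top : v ∈ N ⊔ Rest)
  -- the restricted problem
  let L := K ⊔ A₁
  have hLinv := invariant_of_sup f hNK hNA1
  let g₁ := sub f L N hLinv
  have hKL : K ≤ L := le_sup_left
  have hAL : A₁ ≤ L := le_sup_right
  have hP1 : Pair 2 K A₁ := ⟨hP.quasi, fun b hb c hc => hP.comm b hb.1 c hc.1,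
    fun b hb => hP.exp b hb.1, fun b hb => hP.move b hb.1⟩
  have hstab1 : ∀ b, b ∈ stab K A₁ ↔ b ∈ stab K A ∧ b ∈ A₁ :=
    fun b => ⟨fun h => ⟨⟨h.1.1, h.2⟩, h.1⟩, fun h => ⟨h.2, h.1.2⟩⟩
  have hNfixA : ∀ b ∈ A₁, b ∈ f.ker ∨ ∃ n ∈ N, f b n ≠ n := by
    intro b hb
    by_contra hno
    push Not at hno
    apply hno.1
    show f b = 1
    refine LinearMap.ext fun v => ?_
    obtain ⟨n, hn, r, hr, rfl⟩ := hdec v
    rw [Module.End.one_apply, map_add, hno.2 n hn]
    congr 1
    have := (Submodule.span_le.2 ?_ : Rest ≤ LinearMap.ker (f b - 1)) hr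
    · rwa [LinearMap.mem_ker, LinearMap.sub_apply, Module.End.one_apply, sub_eq_zero] at this
    rintro _ ⟨g, hg, -, m, hm, rfl⟩
    show (f b - 1) (f g m) = 0
    rw [LinearMap.sub_apply, Module.End.one_apply, sub_eq_zero, ← happ, hP.comm b hb.1 g hg, happ,
      hno.2 m hm]
  -- counting
  have hcount : Nat.card ↥N * Nat.card ↥(A ⊓ f.ker) ≤
      Nat.card ↥A₁ * Nat.card ↥(fixed g₁ (A₁.subgroupOf L)) := by
    let Q := ↥A ⧸ A₁.subgroupOf A
    have hA : Nat.card ↥A = Nat.card Q * Nat.card ↥A₁ := by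
      rw [Subgroup.card_eq_card_quotient_mul_card_subgroup (A₁.subgroupOf A), card_subgroupOf hA1A]
    cases nonempty_fintype Q
    have hpow : Nat.card ↥N ^ Nat.card Q ≤ Nat.card V := by
      rw [← Nat.card_fun]
      refine Nat.card_le_card_of_injective (fun F : Q → ↥N => ∑ q, f (q.out : G) (F q : V)) ?_
      intro F F' e
      funext q
      have key : f (q.out : G) ((F q : V) - F' q) =
          -∑ q' ∈ Finset.univ.erase q, f (q'.out : G) ((F q' : V) - F' q') := by
        rw [eq_neg_iff_add_eq_zero, Finset.add_sum_erase _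
          (fun q => f (q.out : G) ((F q : V) - F' q)) (Finset.mem_univ q)]
        simp only [map_sub, Finset.sum_sub_distrib]
        exact sub_eq_zero.2 e
      have : (F q : V) - F' q = 0 := by
        refine hdisj _ (N.sub_mem (F q).2 (F' q).2) ?_
        rw [← hcancel (q.out : G) ((F q : V) - F' q), key, map_neg, map_sum]
        refine Rest.neg_mem (Rest.sum_mem fun q' hq' => ?_)
        rw [← happ]
        refine Submodule.subset_span ⟨_, A.mul_mem (A.inv_mem q.out.2) q'.out.2, fun h => ?_,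
          _, N.sub_mem (F q').2 (F' q').2, rfl⟩
        apply (Finset.mem_erase.1 hq').1
        rw [← QuotientGroup.out_eq' q, ← QuotientGroup.out_eq' q']
        refine (QuotientGroup.eq.2 ?_).symm
        rw [Subgroup.mem_subgroupOf]
        exact h
      exact Subtype.ext (sub_eq_zero.1 this)
    have hFix : Nat.card ↥(fixed f A) ≤ Nat.card ↥(fixed g₁ (A₁.subgroupOf L)) := by
      have hch : ∀ v : ↥(fixed f A), ∃ n : ↥N, n ∈ fixed g₁ (A₁.subgroupOf L) ∧
          (v : V) - n ∈ Rest := by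
        intro v
        obtain ⟨n, hn, r, hr, e⟩ := hdec v.1
        refine ⟨⟨n, hn⟩, fun b hb => Subtype.ext ?_, by rw [← e]; simpa using hr⟩
        show f (b : G) n = n
        have hbA : (b : G) ∈ A₁ := hb
        have hbr : f (b : G) r ∈ Rest := by
          refine (Submodule.span_le.2 ?_ : Rest ≤ Rest.comap (f (b : G))) hr
          rintro _ ⟨g, hg, hg1, m, hm, rfl⟩
          show f (b : G) (f g m) ∈ Rest
          rw [← happ, hP.comm _ hbA.1 g hg, happ]
          exact Submodule.subset_span ⟨g, hg, hg1, _, hNA1 _ hbA m hm, rfl⟩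
        have hv := v.2 _ hbA.1
        rw [← e, map_add] at hv
        apply sub_eq_zero.1
        refine hdisj _ (N.sub_mem (hNA1 _ hbA n hn) hn) ?_
        have : f (b : G) n - n = r - f (b : G) r := by
          rw [sub_eq_sub_iff_add_eq_add, add_comm r n, hv]
        rw [this]
        exact Rest.sub_mem hr hbr
      refine Nat.card_le_card_of_injective
        (fun v => (⟨(hch v).choose, (hch v).choose_spec.1⟩ : ↥(fixed g₁ (A₁.subgroupOf L)))) ?_
      intro v w e
      have e' : (hch v).choose = (hch w).choose := congrArg Subtype.val e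
      have h1 := Rest.sub_mem (hch v).choose_spec.2 (hch w).choose_spec.2
      rw [e', sub_sub_sub_cancel_right] at h1
      apply Subtype.ext
      apply sub_eq_zero.1
      refine hW0 _ fun g hg k hk => ?_
      have hk1 := hRK k hk _ h1
      have hgv : ∀ b ∈ A, f b ((v : V) - w) = (v : V) - w := fun b hb => by
        rw [map_sub, v.2 b hb, w.2 b hb]
      rw [happ, happ, hgv _ (A.inv_mem hg), hk1, hgv g hg]
    have hN2 : 2 ≤ Nat.card ↥N := by
      have : Nontrivial ↥N := Submodule.nontrivial_iff_ne_bot.2 hNne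
      exact Finite.one_lt_card
    set z := Nat.card ↥(A ⊓ f.ker)
    have hz : 0 < z := Nat.card_pos
    have hQ : 0 < Nat.card Q := Nat.card_pos
    obtain ⟨s, hs⟩ : ∃ s, Nat.card Q = s + 1 := ⟨Nat.card Q - 1, by omega⟩
    rw [hs] at hpow hA
    have h1 : (s + 1) * Nat.card ↥N ≤ Nat.card ↥N ^ (s + 1) := by
      rw [pow_succ]; exact Nat.mul_le_mul_right _ (Nat.lt_pow_self hN2)
    refine Nat.le_of_mul_le_mul_left ?_ s.succ_pos
    calc (s + 1) * (Nat.card ↥N * z) = ((s + 1) * Nat.card ↥N) * z := by ring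
      _ ≤ Nat.card V * z := Nat.mul_le_mul_right _ (h1.trans hpow)
      _ ≤ Nat.card ↥A * Nat.card ↥(fixed f A) := hbound
      _ ≤ Nat.card ↥A * Nat.card ↥(fixed g₁ (A₁.subgroupOf L)) := Nat.mul_le_mul_left _ hFix
      _ = _ := by rw [hA, Nat.succ_eq_add_one]; ring
  refine base_false (f := g₁) (hP1.subgroupOf hKL) (a := ⟨a, hAL haA1⟩) haA1
    (fun h => hmove ((hstab1 a).1 ((mem_stab_subgroupOf hKL _).1 h)).1) ?_ ?_ ?_ ?_
    (x := ⟨x, hxN⟩) (fun e => hx0 (congrArg Subtype.val e))
    (fun b hb => Subtype.ext (hxA _ hb)) (fun k hk => Subtype.ext (hxd _ hk)) ?_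
  · intro b hb
    have hb1 : (b : G) ∈ A₁ := hb
    rcases hb1.2 with h | h
    · exact Or.inl ((mem_stab_subgroupOf hKL b).2 ((hstab1 _).2 ⟨h, hb1⟩))
    · exact Or.inr ((mem_stab_subgroupOf hKL _).2 ((hstab1 _).2 ⟨h, A₁.mul_mem haA1 hb1⟩))
  · intro W hWK hWA hWne
    set N₀ := W.map N.subtype
    have h := hgenerate N₀ (Submodule.map_subtype_le N W)
      (fun e => hWne (Submodule.map_injective_of_injective N.subtype_injective
        (e.trans (Submodule.map_bot _).symm))) ?_ ?_
    · refine eq_top_iff.2 fun n _ => ?_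
      obtain ⟨u, hu, r, hr, e⟩ := Submodule.mem_sup.1 (h ▸ Submodule.mem_top : (n : V) ∈ _)
      have hr' : r ∈ Rest := (Submodule.span_mono (by
        rintro _ ⟨g, hg, hg1, m, hm, e⟩
        exact ⟨g, hg, hg1, m, Submodule.map_subtype_le N W hm, e⟩)) hr
      have hr0 : r = 0 := by
        refine hdisj r ?_ hr'
        rw [show r = (n : V) - u by rw [← e]; abel]
        exact N.sub_mem n.2 (Submodule.map_subtype_le N W hu)
      rw [hr0, add_zero] at e
      obtain ⟨w, hw, hwu⟩ := hu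
      rwa [show n = w from Subtype.ext (e.symm.trans hwu.symm)]
    · rintro k hk _ ⟨w, hw, rfl⟩
      exact ⟨g₁ ⟨k, hKL hk⟩ w, hWK _ hk w hw, rfl⟩
    · rintro b hb _ ⟨w, hw, rfl⟩
      exact ⟨g₁ ⟨b, hAL hb⟩ w, hWA _ hb w hw, rfl⟩
  · by_contra hno
    push Not at hno
    apply hx0
    refine hW0 x fun g hg k hk => ?_
    have hKx : ∀ l ∈ K, f l x = x := fun l hl => by
      simpa [g₁, sub_apply] using congrArg Subtype.val (LinearMap.congr_fun (hno ⟨l, hKL hl⟩ hl) ⟨x, hxN⟩)
    by_cases hg1 : g ∈ A₁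
    · rw [happ, happ, hxA _ (A₁.inv_mem hg1), hKx k hk, hxA g hg1]
    · exact hthird g hg hg1 k hk x hxY
  · intro k hk
    refine LinearMap.ext fun w => Subtype.ext ?_
    have := LinearMap.congr_fun (hd (k : G) hk) (w : V)
    simpa [Module.End.mul_apply, g₁, sub_apply, diag] using this
  · have hker : Nat.card ↥(A₁.subgroupOf L ⊓ g₁.ker) ≤ Nat.card ↥(A ⊓ f.ker) := by
      refine Nat.card_le_card_of_injective
        (fun b : ↥(A₁.subgroupOf L ⊓ g₁.ker) => (⟨((b : ↥L) : G), ?_, ?_⟩ : ↥(A ⊓ f.ker))) ?_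
      · exact hA1A b.2.1
      · rcases hNfixA _ b.2.1 with h | ⟨n, hn, hne⟩
        · exact h
        · exfalso; apply hne
          have hb2 : g₁ (b : ↥L) = 1 := b.2.2
          have := congrArg Subtype.val (LinearMap.congr_fun hb2 ⟨n, hn⟩)
          simpa [g₁, sub_apply] using this
      · intro b c e
        exact Subtype.ext (Subtype.ext (congrArg (fun z : ↥(A ⊓ f.ker) => (z : G)) e))
    calc Nat.card ↥N * Nat.card ↥(A₁.subgroupOf L ⊓ g₁.ker)
        ≤ Nat.card ↥N * Nat.card ↥(A ⊓ f.ker) := Nat.mul_le_mul_left _ hker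
      _ ≤ _ := by rw [card_subgroupOf hAL]; exact hcount

theorem core_false [Finite G] [Finite V] (hgen : K ⊔ A = ⊤) (hP : Pair 2 K A)
    (hm : Minimal f K A) (hO : Offends f A) (hD : DiagFixes f K A) : False := by
  classical
  obtain ⟨a, ha, hmove, hd⟩ := hD
  let W : Submodule (ZMod 2) V :=
    { carrier := {v | ∀ g ∈ A, ∀ k ∈ K, f (g * k * g⁻¹) v = v}
      add_mem' := fun {u w} hu hw g hg k hk => by rw [map_add, hu g hg k hk, hw g hg k hk]
      zero_mem' := fun g _ k _ => map_zero _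
      smul_mem' := fun c u hu g hg k hk => by rw [map_smul, hu g hg k hk] }
  have hK1 : ∀ k ∈ K, ∀ w ∈ W, f k w = w := fun k hk w hw => by
    simpa using hw 1 A.one_mem k hk
  have hinv : ∀ g ∈ K ⊔ A, W ≤ W.comap (f g) := by
    refine invariant_of_sup f (fun k hk w hw => by rw [hK1 k hk w hw]; exact hw) ?_
    intro b hb w hw g hg k hk
    have := hw (b⁻¹ * g) (A.mul_mem (A.inv_mem hb) hg) k hk
    conv_rhs => rw [← this]
    rw [← Module.End.mul_apply, ← Module.End.mul_apply, ← map_mul, ← map_mul]; congr 2; group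
  let q := Representation.quotient f W (fun g => hinv g (hgen ▸ Subgroup.mem_top g))
  have hq : ∀ (g : G) (v : V), q g (Submodule.Quotient.mk v) = Submodule.Quotient.mk (f g v) :=
    fun g v => rfl
  have hqmem : ∀ (g : G), q g = 1 → ∀ v, f g v - v ∈ W := by
    intro g hg v
    rw [← Submodule.Quotient.eq, ← hq, hg]; rfl
  have hqnt : ∃ k ∈ K, q k ≠ 1 := by
    by_contra hno
    push Not at hno
    refine hm.false_of_trivial (hP.quasi.eq_one_of_sq fun k hk l hl => ?_)
    refine LinearMap.ext fun v => ?_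
    simp only [Module.End.mul_apply, LinearMap.sub_apply, Module.End.one_apply,
      LinearMap.zero_apply]
    rw [hK1 k hk _ (hqmem l (hno l hl) v), sub_self]
  have hker : A ⊓ q.ker ≤ A ⊓ f.ker := by
    rintro b ⟨hb, hb1⟩
    refine ⟨hb, ?_⟩
    have hb1' : q b = 1 := hb1
    have hbi : q b⁻¹ = 1 := by
      rw [← one_mul (q b⁻¹)]; nth_rw 1 [← hb1']
      rw [← map_mul, mul_inv_cancel, map_one]
    show f b = 1
    by_contra hbne
    obtain ⟨k₀, hk₀, hk₀ne⟩ := hqnt
    apply hk₀ne
    by_cases hbs : b ∈ stab K A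
    · obtain ⟨y, hy, x₀, hx₀, hnc⟩ := hP.exists_commutator hm hbs hbne
      set c := y * b * y⁻¹ * b⁻¹ with hc
      have hcK : c ∈ K := by
        rw [hc, show y * b * y⁻¹ * b⁻¹ = y * (b * y⁻¹ * b⁻¹) by group]
        exact K.mul_mem hy (conj_mem_of_stab hbs (K.inv_mem hy))
      have : k₀ ∈ lfix q 1 := by
        refine hP.quasi.le_of_mem (fun x _ m _ hm' => lfix_conj (by rw [one_mul, mul_one]) hm')
          hcK ?_ hx₀ hnc hk₀
        rw [mem_lfix, mul_one, hc, map_mul, map_mul, map_mul, hb1', hbi, mul_one, mul_one,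
          ← map_mul, mul_inv_cancel, map_one]
      simpa [mem_lfix] using this
    · have hsame : ∀ k, q (b * k * b⁻¹) = q k := fun k => by
        rw [map_mul, map_mul, hb1', hbi, one_mul, mul_one]
      refine hP.quasi.eq_one_of_comm (fun k hk l hl => ?_) k₀ hk₀
      rw [← hsame k, ← map_mul, hP.commutes hb hbs hk hl, map_mul]
  have : Finite (V ⧸ W) := Finite.of_surjective _ (Submodule.Quotient.mk_surjective W)
  refine irreducible_core_false (f := q) hP ha hmove ?_ hqnt ?_ ?_
  · intro k hk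
    refine LinearMap.ext fun v => ?_
    obtain ⟨v, rfl⟩ := Submodule.Quotient.mk_surjective W v
    have := LinearMap.congr_fun (hd k hk) v
    simp only [Module.End.mul_apply, LinearMap.sub_apply, Module.End.one_apply, hq,
      ← Submodule.Quotient.mk_sub] at this ⊢
    rw [this]
  · intro U hUK hUA hUne
    set U' := U.comap W.mkQ
    by_contra hUtop
    have hU'top : U' ≠ ⊤ := by
      intro e
      apply hUtop
      refine eq_top_iff.2 fun v _ => ?_
      obtain ⟨v, rfl⟩ := Submodule.Quotient.mk_surjective W v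
      exact (e.symm ▸ Submodule.mem_top : v ∈ U')
    have hUA' : ∀ b ∈ A, ∀ w ∈ U', f b w ∈ U' := fun b hb w hw => hUA b hb _ hw
    have hfix := hm.minimal U' (fun k hk w hw => hUK k hk _ hw) hUA' hU'top
    apply hUne
    refine eq_bot_iff.2 fun v hv => ?_
    obtain ⟨v, rfl⟩ := Submodule.Quotient.mk_surjective W v
    rw [Submodule.mem_bot, Submodule.Quotient.mk_eq_zero]
    intro g hg k hk
    have := hfix k hk _ (hUA' g⁻¹ (A.inv_mem hg) v hv)
    rw [map_mul, map_mul, Module.End.mul_apply, Module.End.mul_apply, this,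
      ← Module.End.mul_apply, ← map_mul, mul_inv_cancel, map_one, Module.End.one_apply]
  · set B := A ⊓ f.ker
    have hB := hO B inf_le_left
    have htop : fixed f B = ⊤ := eq_top_iff.2 fun v _ b hb => by
      rw [show f b = 1 from hb.2]; rfl
    have hV : Nat.card ↥(fixed f B) = Nat.card V := by
      rw [htop]; exact Nat.card_congr Submodule.topEquiv.toEquiv
    rw [hV, Submodule.card_eq_card_quotient_mul_card W] at hB
    have hfix : Nat.card ↥(fixed f A) ≤ Nat.card ↥(fixed q A) * Nat.card ↥W := by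
      rw [← Nat.card_prod]
      refine Nat.card_le_card_of_injective (fun v : ↥(fixed f A) =>
        ((⟨Submodule.Quotient.mk (v : V), fun b hb => by rw [hq, v.2 b hb]⟩ : ↥(fixed q A)),
          (⟨(v : V) - Quotient.out (Submodule.Quotient.mk (p := W) (v : V)), by
            rw [← Submodule.Quotient.eq]; exact (Quotient.out_eq _).symm⟩ : ↥W))) ?_
      intro v w e
      obtain ⟨e1, e2⟩ := Prod.mk.inj e
      have e1' : Submodule.Quotient.mk (p := W) (v : V) = Submodule.Quotient.mk (w : V) :=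
        congrArg Subtype.val e1
      have e2' := congrArg Subtype.val e2
      simp only [e1', sub_left_inj] at e2'
      exact Subtype.ext e2'
    have hBq : Nat.card ↥(A ⊓ q.ker) ≤ Nat.card ↥B :=
      Nat.card_mono (Set.toFinite _) (SetLike.coe_subset_coe.2 hker)
    refine Nat.le_of_mul_le_mul_right ?_ (Nat.card_pos (α := ↥W))
    calc Nat.card (V ⧸ W) * Nat.card ↥(A ⊓ q.ker) * Nat.card ↥W
        ≤ Nat.card (V ⧸ W) * Nat.card ↥B * Nat.card ↥W :=
          Nat.mul_le_mul_right _ (Nat.mul_le_mul_left _ hBq)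
      _ = Nat.card ↥B * (Nat.card ↥W * Nat.card (V ⧸ W)) := by ring
      _ ≤ Nat.card ↥A * Nat.card ↥(fixed f A) := hB
      _ ≤ _ := by rw [mul_assoc]; exact Nat.mul_le_mul_left _ hfix

end Cfsg.Lib.Offender
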