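import Cfsg.Agent.Lib.Offender.Odd
import Cfsg.Agent.Lib.Offender.Core

/-!
An offender normalizes every subgroup `K` it could only move to a commuting one.
-/

set_option autoImplicit false

namespace Cfsg.Lib.Offender

variable {p : ℕ} [hp : Fact p.Prime] {G V : Type*} [Group G] [AddCommGroup V] [Module (ZMod p) V]
variable {f : Representation (ZMod p) G V} {K A : Subgroup G}

theorem le_stab [Finite G] [Finite V] (hgen : K ⊔ A = ⊤) (hP : Pair p K A) (hm : Minimal f K A)
    (hO : Offends f A) : A ≤ stab K A := by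
  intro a₀ ha₀
  by_contra hmove
  obtain ⟨B, hBA, hB, hrel, hfix⟩ := replacement hP.comm hO
  have hAne : ¬ ∀ a ∈ A, f a = 1 := by
    intro htriv
    refine hm.false_of_trivial (hP.quasi.eq_one_of_comm fun k hk l hl => ?_)
    have h1 : f a₀ = 1 := htriv a₀ ha₀
    have h2 : f a₀⁻¹ = 1 := htriv _ (A.inv_mem ha₀)
    have hsame : f (a₀ * k * a₀⁻¹) = f k := by rw [map_mul, map_mul, h1, h2, one_mul, mul_one]
    rw [← hsame, ← map_mul, hP.commutes ha₀ hmove hk hl, map_mul]
  have hBne : ∃ b ∈ B, f b ≠ 1 := by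
    by_contra hno
    push Not at hno
    have htop : fixed f B = ⊤ := eq_top_iff.2 fun v _ b hb => by rw [hno b hb]; rfl
    rw [htop] at hfix
    exact hAne (eq_one_of_span_eq_top hP.comm hP.exp (eq_top_iff.2 hfix))
  have hzero : ∀ b ∈ B, ∀ a ∈ A, (f b - 1) * (f a - 1) = 0 := fun b hb a ha =>
    LinearMap.ext fun v => by
      rw [Module.End.mul_apply, LinearMap.sub_apply (f b), Module.End.one_apply,
        LinearMap.sub_apply, Module.End.one_apply, hrel b hb a ha v, sub_self]
      rfl
  by_cases hI : ∃ b ∈ B, b ∈ stab K A ∧ f b ≠ 1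
  · obtain ⟨b, hbB, hbs, hbne⟩ := hI
    by_cases h2 : p = 2
    · subst h2
      exact core_false hgen hP hm hO
        (two_case_one hP hm hbs hbne ha₀ hmove (hzero b hbB a₀ ha₀))
    · exact odd_case_one h2 hP hm hbs hbne ha₀ hmove (hzero b hbB b hbs.1) (hzero b hbB a₀ ha₀)
  · push Not at hI
    obtain ⟨b, hbB, hbne⟩ := hBne
    have hbs : b ∉ stab K A := fun h => hbne (hI b hbB h)
    by_cases h2 : p = 2
    · subst h2
      exact core_false hgen hP hm hO (two_case_two hP hm hO hBA hB
        (fun c hc d hd => hzero c hc d (hBA hd)) hI hbB hbs)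
    · exact odd_case_two h2 hP hm (hBA hbB) hbs (hzero b hbB b (hBA hbB))

end Cfsg.Lib.Offender
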