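import Cfsg.Agent.Lib.Offender.Setup

/-!
Odd characteristic: a quadratic element cannot move `K`.
-/

set_option autoImplicit false

namespace Cfsg.Lib.Offender

variable {p : ℕ} [Fact p.Prime] {G V : Type*} [Group G] [AddCommGroup V] [Module (ZMod p) V]
variable {f : Representation (ZMod p) G V} {K A : Subgroup G}

theorem two_cancel (hp : p ≠ 2) {M : Type*} [AddCommGroup M] [Module (ZMod p) M] {x : M}
    (h : x + x = 0) : x = 0 := by
  have h2 : (2 : ZMod p) ≠ 0 := by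
    intro h'
    have hdvd : p ∣ 2 := (ZMod.natCast_eq_zero_iff 2 p).1 (by exact_mod_cast h')
    exact hp ((Nat.prime_dvd_prime_iff_eq Fact.out Nat.prime_two).1 hdvd)
  rw [← two_smul (ZMod p) x] at h
  exact (smul_eq_zero.1 h).resolve_left h2

/-- Case I: a normalizing quadratic element together with a moving one. -/
theorem odd_case_one (hp : p ≠ 2) (hP : Pair p K A) (hm : Minimal f K A) {a b : G}
    (hb : b ∈ stab K A) (hbne : f b ≠ 1) (ha : a ∈ A) (hmove : a ∉ stab K A)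
    (hbb : (f b - 1) * (f b - 1) = 0) (hba : (f b - 1) * (f a - 1) = 0) : False := by
  obtain ⟨y, hy, x₀, hx₀, hnc⟩ := hP.exists_commutator hm hb hbne
  have hab := hP.comm a ha b hb.1
  have hbK : ∀ k ∈ K, b * k * b⁻¹ ∈ K := fun k hk => conj_mem_of_stab hb hk
  have hbK' : ∀ k ∈ K, b⁻¹ * k * b ∈ K := hb.2.2
  set c := y * b * y⁻¹ * b⁻¹ with hc
  have hcK : c ∈ K := by
    rw [hc, show y * b * y⁻¹ * b⁻¹ = y * (b * y⁻¹ * b⁻¹) by group]
    exact K.mul_mem hy (hbK _ (K.inv_mem hy))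
  set γ := b⁻¹ * c⁻¹ * b with hγ
  have hγK : γ ∈ K := hbK' _ (K.inv_mem hcK)
  have hcomm : ∀ k ∈ K, ∀ l ∈ K, k * (a * l * a⁻¹) = (a * l * a⁻¹) * k :=
    fun k hk l hl => (hP.commutes ha hmove hl hk).symm
  have hquad : ∀ x : G, (f (x * b * x⁻¹) - 1) * (f (x * b * x⁻¹) - 1) = 0 := by
    intro x
    rw [conj_sub_one]
    calc f x * (f b - 1) * f x⁻¹ * (f x * (f b - 1) * f x⁻¹)
        = f x * (f b - 1) * (f x⁻¹ * f x) * (f b - 1) * f x⁻¹ := by noncomm_ring
      _ = f x * ((f b - 1) * (f b - 1)) * f x⁻¹ := by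
        rw [← map_mul, inv_mul_cancel, map_one]; noncomm_ring
      _ = 0 := by rw [hbb, mul_zero, zero_mul]
  have hbinv : ∀ u : G, (f u - 1) * (f u - 1) = 0 → f u⁻¹ = 1 + 1 - f u := by
    intro u hu
    have h1 : f u⁻¹ * ((f u - 1) * (f u - 1)) = f u - (1 + 1) + f u⁻¹ := by
      have e : f u⁻¹ * f u = 1 := by rw [← map_mul, inv_mul_cancel, map_one]
      calc f u⁻¹ * ((f u - 1) * (f u - 1))
          = (f u⁻¹ * f u) * f u - (f u⁻¹ * f u + f u⁻¹ * f u) + f u⁻¹ := by noncomm_ring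
        _ = f u - (1 + 1) + f u⁻¹ := by rw [e]; noncomm_ring
    rw [hu, mul_zero] at h1
    linear_combination (norm := abel) -h1
  have key : ∀ d e : G, d * b * e = 1 → (∃ x, d * b = x * b * x⁻¹) →
      (f d - f (e * b)) * f b = (1 - f (e * b)) + (1 - f (e * b)) := by
    rintro d e hde ⟨x, hx⟩
    have h1 := hbinv (d * b) (by rw [hx]; exact hquad x)
    have h2 : (d * b)⁻¹ = (e * b) * b⁻¹ := by
      rw [inv_eq_of_mul_eq_one_right hde]; group
    rw [h2, map_mul f (e * b) b⁻¹, hbinv b hbb, map_mul f d b] at h1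
    linear_combination (norm := noncomm_ring) h1
  set c₁ := a * c * a⁻¹ with hc₁
  set γ₁ := a * γ * a⁻¹ with hγ₁
  have hy1 : y * c₁ = c₁ * y := hcomm y hy c hcK
  have e1 := key c (b⁻¹ * c⁻¹) (by group) ⟨y, by rw [hc]; group⟩
  have e2 := key c₁ (b⁻¹ * c₁⁻¹) (by group) ⟨a * y, by
    calc c₁ * b = a * c * (a⁻¹ * b) := by rw [hc₁]; group
      _ = a * c * (b * a⁻¹) := by
        rw [((show Commute a b from hab).inv_left).eq]
      _ = a * y * b * (a * y)⁻¹ := by rw [hc]; group⟩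
  have hcc : c₁ * c * b = (y * (a * y)) * b * (y * (a * y))⁻¹ := by
    have hc1b : c₁ * b = (a * y) * b * (a * y)⁻¹ := by
      calc c₁ * b = a * c * (a⁻¹ * b) := by rw [hc₁]; group
        _ = a * c * (b * a⁻¹) := by rw [((show Commute a b from hab).inv_left).eq]
        _ = a * y * b * (a * y)⁻¹ := by rw [hc]; group
    calc c₁ * c * b = c₁ * (y * b * y⁻¹) := by rw [hc]; group
      _ = (c₁ * y) * b * y⁻¹ := by group
      _ = y * (c₁ * b) * y⁻¹ := by rw [← hy1]; group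
      _ = _ := by rw [hc1b]; group
  have e3 := key (c₁ * c) (b⁻¹ * (c₁ * c)⁻¹) (by group) ⟨_, hcc⟩
  have g1 : b⁻¹ * c⁻¹ * b = γ := rfl
  have hai : a * b⁻¹ = b⁻¹ * a := ((show Commute a b from hab).inv_right).eq
  have g2 : b⁻¹ * c₁⁻¹ * b = γ₁ := by
    calc b⁻¹ * c₁⁻¹ * b = (b⁻¹ * a) * c⁻¹ * (a⁻¹ * b) := by rw [hc₁]; group
      _ = (a * b⁻¹) * c⁻¹ * (b * a⁻¹) := by
        rw [hai, ((show Commute a b from hab).inv_left).eq]
      _ = γ₁ := by rw [hγ₁, hγ]; group
  have g3 : b⁻¹ * (c₁ * c)⁻¹ * b = γ * γ₁ := by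
    rw [← g2, hγ]; group
  rw [g1] at e1; rw [g2] at e2; rw [g3] at e3
  have hcg : f c₁ * f γ = f γ * f c₁ := map_comm (hcomm γ hγK c hcK).symm
  simp only [map_mul] at e3
  have e0 : (f c₁ - 1) * (f γ - 1) = 0 := by
    apply two_cancel hp
    have : f c₁ * ((f c - f γ) * f b) + f γ * ((f c₁ - f γ₁) * f b) -
        (f c₁ * f c - f γ * f γ₁) * f b = 0 := by
      have : f c₁ * ((f c - f γ) * f b) + f γ * ((f c₁ - f γ₁) * f b) -
        (f c₁ * f c - f γ * f γ₁) * f b = (f γ * f c₁ - f c₁ * f γ) * f b := by noncomm_ring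
      rw [this, hcg, sub_self, zero_mul]
    rw [e1, e2, e3] at this
    linear_combination (norm := noncomm_ring) -this
  -- everything in `K` is annihilated by everything in the conjugate
  have hγnc : (b⁻¹ * x₀ * b) * γ ≠ γ * (b⁻¹ * x₀ * b) := by
    intro h
    apply hnc
    have h' : x₀ * c⁻¹ = c⁻¹ * x₀ := by
      calc x₀ * c⁻¹ = b * ((b⁻¹ * x₀ * b) * γ) * b⁻¹ := by rw [hγ]; group
        _ = b * (γ * (b⁻¹ * x₀ * b)) * b⁻¹ := by rw [h]
        _ = c⁻¹ * x₀ := by rw [hγ]; group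
    have := (show Commute x₀ c⁻¹ from h').inv_right.eq
    rwa [inv_inv] at this
  have hK1 := hP.quasi.cj a
  have hnc1 : (a * x₀ * a⁻¹) * c₁ ≠ c₁ * (a * x₀ * a⁻¹) := by
    intro h
    apply hnc
    calc x₀ * c = a⁻¹ * ((a * x₀ * a⁻¹) * c₁) * a := by rw [hc₁]; group
      _ = a⁻¹ * (c₁ * (a * x₀ * a⁻¹)) * a := by rw [h]
      _ = c * x₀ := by rw [hc₁]; group
  have hKK : ∀ l ∈ cj K a, ∀ k ∈ K, l * k = k * l := by
    intro l hl k hk
    obtain ⟨m, hm', rfl⟩ := exists_of_mem_cj hl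
    exact hP.commutes ha hmove hm' hk
  have hzero := pair_fix hK1 hP.quasi hKK (mem_cj hcK) hγK (mem_cj hx₀) hnc1 (hbK' _ hx₀) hγnc e0
  -- conjugate `δ a = δ`
  have hstep : ∀ k ∈ K, ∀ w ∈ K, ∀ x ∈ K,
      (f w - 1) * (f (k * b * k⁻¹) - 1) * (f x - 1) = 0 := by
    intro k hk w hw x hx
    set k₁ := a * k * a⁻¹ with hk₁
    set x₁ := a * x * a⁻¹ with hx₁
    have hk1K : k₁ ∈ cj K a := mem_cj hk
    have r1 : (f (k * b * k⁻¹) - 1) * f (k * a * k⁻¹) = f (k * b * k⁻¹) - 1 := by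
      have : (f b - 1) * f a = f b - 1 := by
        rw [← sub_eq_zero]; linear_combination (norm := noncomm_ring) hba
      rw [conj_sub_one, mul_assoc (f k * (f b - 1)), ← map_mul,
        show k⁻¹ * (k * a * k⁻¹) = a * k⁻¹ by group, map_mul, ← mul_assoc, mul_assoc (f k),
        this]
    have r2 : f (k * a * k⁻¹) = f k * f k₁⁻¹ * f a := by
      rw [← map_mul, ← map_mul, hk₁]; congr 1; group
    have r3 : f k * f k₁⁻¹ = f k + f k₁⁻¹ - 1 := by
      have := hzero _ (inv_mem hk1K) k hk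
      have hc2 : f k₁⁻¹ * f k = f k * f k₁⁻¹ := map_comm (hKK _ (inv_mem hk1K) k hk)
      linear_combination (norm := noncomm_ring) this - hc2
    have r4 : f a * (f x - 1) = (f x₁ - 1) * f a := by
      rw [mul_sub, sub_mul, mul_one, one_mul, ← map_mul, ← map_mul, hx₁]; congr 2; group
    have r5 : (f k - 1) * (f x₁ - 1) = 0 := by
      have hcm : Commute (f k - 1) (f x₁ - 1) :=
        ((show Commute (f k) (f x₁) from map_comm (hcomm k hk x hx)).sub_right
          (Commute.one_right _)).sub_left (Commute.one_left _)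
      rw [hcm.eq, hzero _ (mem_cj hx) k hk]
    have hsum : (f (k * b * k⁻¹) - 1) * (f x - 1) =
        (f (k * b * k⁻¹) - 1) * (f k₁⁻¹ * (f x₁ - 1)) * f a := by
      conv_lhs => rw [← r1, r2, r3]
      calc (f (k * b * k⁻¹) - 1) * ((f k + f k₁⁻¹ - 1) * f a) * (f x - 1)
          = (f (k * b * k⁻¹) - 1) * ((f k + f k₁⁻¹ - 1) * (f a * (f x - 1))) := by noncomm_ring
        _ = (f (k * b * k⁻¹) - 1) * (((f k - 1) * (f x₁ - 1) + f k₁⁻¹ * (f x₁ - 1)) * f a) := by
          rw [r4]; noncomm_ring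
        _ = _ := by rw [r5, zero_add]; noncomm_ring
    -- products `(w - 1) g (l - 1)` vanish
    have hz : ∀ g ∈ K, ∀ l ∈ cj K a, (f w - 1) * f g * (f l - 1) = 0 := by
      intro g hg l hl
      have h1 : ∀ g ∈ K, (f g - 1) * (f l - 1) = 0 := by
        intro g hg
        have hcm : Commute (f g - 1) (f l - 1) :=
          ((show Commute (f g) (f l) from map_comm (hKK l hl g hg).symm).sub_right
            (Commute.one_right _)).sub_left (Commute.one_left _)
        rw [hcm.eq, hzero l hl g hg]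
      have h2 := h1 _ (K.mul_mem hw hg)
      have h3 := h1 g hg
      rw [map_mul] at h2
      linear_combination (norm := noncomm_ring) h2 - h3
    have hz2 : ∀ g ∈ K, ∀ l ∈ cj K a, ∀ m ∈ cj K a,
        (f w - 1) * f g * (f l * (f m - 1)) = 0 := by
      intro g hg l hl m hm'
      have h1 := hz g hg _ (Subgroup.mul_mem _ hl hm')
      have h2 := hz g hg l hl
      rw [map_mul] at h1
      linear_combination (norm := noncomm_ring) h1 - h2
    rw [mul_assoc, hsum, ← mul_assoc, ← mul_assoc]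
    have hmove' : ∀ l ∈ cj K a, b * l * b⁻¹ ∈ cj K a := by
      intro l hl
      obtain ⟨m, hm', rfl⟩ := exists_of_mem_cj hl
      have e : b * (a * m * a⁻¹) * b⁻¹ = a * (b * m * b⁻¹) * a⁻¹ := by
        calc b * (a * m * a⁻¹) * b⁻¹ = (b * a) * m * (b * a)⁻¹ := by group
          _ = (a * b) * m * (a * b)⁻¹ := by rw [hab]
          _ = _ := by group
      rw [e]; exact mem_cj (hbK m hm')
    have hb1 : f b * (f k₁⁻¹ * (f x₁ - 1)) =
        f (b * k₁⁻¹ * b⁻¹) * (f (b * x₁ * b⁻¹) - 1) * f b := by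
      have u1 : f b * f k₁⁻¹ = f (b * k₁⁻¹ * b⁻¹) * f b := by
        rw [← map_mul, ← map_mul]; congr 1; group
      have u2 : f b * f x₁ = f (b * x₁ * b⁻¹) * f b := by
        rw [← map_mul, ← map_mul]; congr 1; group
      rw [← mul_assoc, u1, mul_assoc, mul_sub, u2, mul_one]
      noncomm_ring
    have hcb : f (k * b * k⁻¹) = f (k * (b * k⁻¹ * b⁻¹)) * f b := by
      rw [← map_mul]; congr 1; group
    calc (f w - 1) * (f (k * b * k⁻¹) - 1) * (f k₁⁻¹ * (f x₁ - 1)) * f a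
        = (f w - 1) * (f (k * (b * k⁻¹ * b⁻¹)) * (f b * (f k₁⁻¹ * (f x₁ - 1)))) * f a -
          (f w - 1) * f 1 * (f k₁⁻¹ * (f x₁ - 1)) * f a := by
            rw [hcb, map_one]; noncomm_ring
      _ = (f w - 1) * f (k * (b * k⁻¹ * b⁻¹)) *
            (f (b * k₁⁻¹ * b⁻¹) * (f (b * x₁ * b⁻¹) - 1)) * f b * f a -
          (f w - 1) * f 1 * (f k₁⁻¹ * (f x₁ - 1)) * f a := by rw [hb1]; noncomm_ring
      _ = 0 := by
        rw [hz2 _ (K.mul_mem hk (hbK _ (K.inv_mem hk))) _ (hmove' _ (inv_mem hk1K)) _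
          (hmove' _ (mem_cj hx)), hz2 _ K.one_mem _ (inv_mem hk1K) _ (mem_cj hx)]
        simp
  have hc3 : ∀ w ∈ K, ∀ x ∈ K, (f w - 1) * (f c - 1) * (f x - 1) = 0 := by
    intro w hw x hx
    have hx' : b⁻¹ * x * b ∈ K := hbK' x hx
    have h1 := hstep y hy w hw _ hx'
    have h0 := hstep 1 K.one_mem w hw _ hx'
    rw [one_mul, inv_one, mul_one] at h0
    have hyb : f (y * b * y⁻¹) = f c * f b := by rw [← map_mul, hc]; congr 1; group
    have hbx : f b * (f (b⁻¹ * x * b) - 1) = (f x - 1) * f b := by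
      rw [mul_sub, sub_mul, mul_one, one_mul, ← map_mul, ← map_mul]; congr 2; group
    rw [hyb] at h1
    apply op_cancel_right b
    rw [zero_mul, mul_assoc, ← hbx]
    linear_combination (norm := noncomm_ring) h1 - h0
  let S : Subgroup G :=
    { carrier := {k | k ∈ K ∧ ∀ w ∈ K, ∀ x ∈ K, (f w - 1) * (f k - 1) * (f x - 1) = 0}
      one_mem' := ⟨K.one_mem, fun w _ x _ => by rw [map_one]; simp⟩
      mul_mem' := fun {k l} hk hl => ⟨K.mul_mem hk.1 hl.1, fun w hw x hx => by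
        have h1 := hk.2 w hw _ (K.mul_mem hl.1 hx)
        have h2 := hk.2 w hw l hl.1
        have h3 := hl.2 w hw x hx
        rw [map_mul] at h1 ⊢
        linear_combination (norm := noncomm_ring) h1 - h2 + h3⟩
      inv_mem' := fun {k} hk => ⟨K.inv_mem hk.1, fun w hw x hx => by
        have h1 := hk.2 _ (K.mul_mem hw (K.inv_mem hk.1)) x hx
        have h2 := hk.2 k⁻¹ (K.inv_mem hk.1) x hx
        rw [map_mul] at h1
        have e : f k⁻¹ * f k = 1 := by rw [← map_mul, inv_mul_cancel, map_one]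
        have h3 : (f w - 1) * (f k⁻¹ * f k - f k⁻¹) * (f x - 1) = 0 := by
          linear_combination (norm := noncomm_ring) h1 - h2
        rw [e] at h3
        linear_combination (norm := noncomm_ring) -h3⟩ }
  have hS : K ≤ S := by
    refine hP.quasi.le_of_mem (fun u hu m hmK hm => ⟨?_, fun w hw x hx => ?_⟩) hcK ⟨hcK, hc3⟩ hx₀ hnc
    · exact K.mul_mem (K.mul_mem hu hmK) (K.inv_mem hu)
    · have h := hm.2 (u⁻¹ * w * u) (K.mul_mem (K.mul_mem (K.inv_mem hu) hw) hu)
        (u⁻¹ * x * u) (K.mul_mem (K.mul_mem (K.inv_mem hu) hx) hu)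
      have e : ∀ g, f (u⁻¹ * g * u) - 1 = f u⁻¹ * (f g - 1) * f u := fun g => by
        have := conj_sub_one (f := f) u⁻¹ g
        rwa [inv_inv] at this
      rw [e, e] at h
      rw [conj_sub_one]
      apply op_cancel u⁻¹
      apply op_cancel_right u
      rw [mul_zero, zero_mul]
      linear_combination (norm := noncomm_ring) h
  have hfix : ∀ x ∈ K, ∀ k ∈ K, f k * (f x - 1) = f x - 1 := fun x hx =>
    hP.quasi.fix_of_mul_zero fun k hk l hl => by rw [← mul_assoc]; exact (hS hl).2 k hk x hx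
  refine hm.false_of_trivial (hP.quasi.eq_one_of_sq fun k hk l hl => ?_)
  rw [sub_mul, one_mul, hfix l hl k hk, sub_self]

/-- Case II, first step: `(K - 1)(aKa⁻¹ - 1) = 0`. -/
theorem odd_quadratic_step (hp : p ≠ 2) (hP : Pair p K A) {a : G} (ha : a ∈ A)
    (h1 : a ∉ stab K A) (h2 : a * a ∉ stab K A) (haa : (f a - 1) * (f a - 1) = 0)
    {k₀ l₀ : G} (hk₀ : k₀ ∈ K) (hl₀ : l₀ ∈ K) (hne : k₀ * l₀ ≠ l₀ * k₀) :
    ∀ k ∈ K, ∀ l ∈ K, (f k - 1) * (f (a * l * a⁻¹) - 1) = 0 := by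
  have hsq : f (a * a) = f a + f a - 1 := by
    rw [map_mul]; linear_combination (norm := noncomm_ring) haa
  have hc02 : ∀ k ∈ K, ∀ l ∈ K, k * (a * (a * l * a⁻¹) * a⁻¹) = (a * (a * l * a⁻¹) * a⁻¹) * k := by
    intro k hk l hl
    have := (hP.commutes (A.mul_mem ha ha) h2 hl hk).symm
    rwa [show (a * a) * l * (a * a)⁻¹ = a * (a * l * a⁻¹) * a⁻¹ by group] at this
  have hc12 : ∀ k ∈ K, ∀ l ∈ K, (a * k * a⁻¹) * (a * (a * l * a⁻¹) * a⁻¹) =
      (a * (a * l * a⁻¹) * a⁻¹) * (a * k * a⁻¹) := by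
    intro k hk l hl
    calc (a * k * a⁻¹) * (a * (a * l * a⁻¹) * a⁻¹) = a * (k * (a * l * a⁻¹)) * a⁻¹ := by group
      _ = a * ((a * l * a⁻¹) * k) * a⁻¹ := by rw [← hP.commutes ha h1 hl hk]
      _ = _ := by group
  have E : ∀ k ∈ K, f (a * k * a⁻¹) * f (a * (a * k * a⁻¹) * a⁻¹) +
      f (a * k * a⁻¹) * f (a * (a * k * a⁻¹) * a⁻¹) =
      f (a * k * a⁻¹) * f (a * k * a⁻¹) +
        f (a * (a * k * a⁻¹) * a⁻¹) * f (a * (a * k * a⁻¹) * a⁻¹) := by
    intro k hk
    set k₁ := a * k * a⁻¹ with hk₁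
    set k₂ := a * k₁ * a⁻¹ with hk₂
    have q1 : f k₂ * f (a * a) = f (a * a) * f k := by
      rw [← map_mul, ← map_mul]; congr 1; rw [hk₂, hk₁]; group
    have q2 : f k₁ * f a = f a * f k := by rw [← map_mul, ← map_mul]; congr 1; rw [hk₁]; group
    have q3 : f k₂ * f a = f a * f k₁ := by rw [← map_mul, ← map_mul]; congr 1; rw [hk₂]; group
    have h12 : f k₁ * f k₂ = f k₂ * f k₁ := map_comm (hc12 k hk k hk)
    have hy : f k₁ * f k = f k * f k₁ := map_comm (hP.commutes ha h1 hk hk)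
    rw [hsq] at q1
    have base : (f k₂ - f k₁) * f a + (f k₂ - f k₁) * f a = f k₂ - f k := by
      linear_combination (norm := noncomm_ring) q1 - q2 - q2
    have hy2 : f k₁ * (f k₂ - f k) = (f k₂ - f k) * f k₁ := by rw [mul_sub, sub_mul, h12, hy]
    have key : f k₁ * (f k₂ - f k₁) = (f k₂ - f k₁) * f k₂ := by
      apply op_cancel_right a
      rw [← sub_eq_zero]
      apply two_cancel hp
      rw [← base] at hy2
      have q3' : (f k₂ - f k₁) * f k₂ * f a = (f k₂ - f k₁) * f a * f k₁ := by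
        rw [mul_assoc, q3, ← mul_assoc]
      rw [q3']
      linear_combination (norm := noncomm_ring) hy2
    linear_combination (norm := noncomm_ring) key
  -- the double commutator
  have hD : ∀ k ∈ K, ∀ w ∈ K, ∀ v ∈ K,
      (f (w * k * w⁻¹ * k⁻¹) - 1) * (f (a * (v * k * v⁻¹ * k⁻¹) * a⁻¹) - 1) = 0 := by
    intro k hk w hw v hv
    set c := a * (w * k * w⁻¹ * k⁻¹) * a⁻¹ with hc
    set d := a * (a * (v * k * v⁻¹ * k⁻¹) * a⁻¹) * a⁻¹ with hd
    set X := f (a * k * a⁻¹) with hX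
    set Y := f (a * (a * k * a⁻¹) * a⁻¹) with hY
    set W := f (a * w * a⁻¹) with hW
    set W' := f (a * w * a⁻¹)⁻¹ with hW'
    set U := f (a * (a * v * a⁻¹) * a⁻¹) with hU
    set U' := f (a * (a * v * a⁻¹) * a⁻¹)⁻¹ with hU'
    have hWW : W * W' = 1 := by rw [hW, hW', ← map_mul, mul_inv_cancel, map_one]
    have hWW' : W' * W = 1 := by rw [hW, hW', ← map_mul, inv_mul_cancel, map_one]
    have hUU : U * U' = 1 := by rw [hU, hU', ← map_mul, mul_inv_cancel, map_one]
    have hUU' : U' * U = 1 := by rw [hU, hU', ← map_mul, inv_mul_cancel, map_one]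
    have cWY : Commute W Y := map_comm (hc12 w hw k hk)
    have cXU : Commute X U := map_comm (hc12 k hk v hv)
    have cWU : Commute W U := map_comm (hc12 w hw v hv)
    have cW'U : Commute W' U := map_comm ((show Commute (a * w * a⁻¹) _ from hc12 w hw v hv).inv_left)
    have e0 : X * Y + X * Y = X * X + Y * Y := E k hk
    have e1 : (W * X * W' - X) * Y + (W * X * W' - X) * Y = W * (X * X) * W' - X * X := by
      have hh : W * (X * Y + X * Y) * W' = W * (X * X + Y * Y) * W' := by rw [e0]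
      have hyW : Y * W' = W' * Y := by
        calc Y * W' = W' * W * (Y * W') := by rw [hWW', one_mul]
          _ = W' * (W * Y) * W' := by noncomm_ring
          _ = W' * Y * (W * W') := by rw [cWY.eq]; noncomm_ring
          _ = W' * Y := by rw [hWW, mul_one]
      have hyy : W * (Y * Y) * W' = Y * Y := by
        calc W * (Y * Y) * W' = W * Y * (Y * W') := by noncomm_ring
          _ = Y * (W * W') * Y := by rw [cWY.eq, hyW]; noncomm_ring
          _ = Y * Y := by rw [hWW, mul_one]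
      have hxy : W * (X * Y) * W' = W * X * W' * Y := by
        rw [mul_assoc (W * X) W' Y, ← hyW]; noncomm_ring
      rw [mul_add W, add_mul, mul_add W, add_mul, hxy, hyy] at hh
      linear_combination (norm := noncomm_ring) hh - e0
    have cZU : Commute (W * X * W' - X) U := ((cWU.mul_left cXU).mul_left cW'U).sub_left cXU
    have e2 : (W * X * W' - X) * (U * Y * U' - Y) = 0 := by
      apply two_cancel hp
      have cR : Commute (W * (X * X) * W' - X * X) U :=
        ((cWU.mul_left (cXU.mul_left cXU)).mul_left cW'U).sub_left (cXU.mul_left cXU)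
      have hh : U * ((W * X * W' - X) * Y + (W * X * W' - X) * Y) * U' =
          W * (X * X) * W' - X * X := by
        rw [e1, ← cR.eq, mul_assoc, hUU, mul_one]
      have hh2 : U * ((W * X * W' - X) * Y + (W * X * W' - X) * Y) * U' =
          (W * X * W' - X) * (U * Y * U') + (W * X * W' - X) * (U * Y * U') := by
        rw [mul_add, add_mul, ← mul_assoc U, ← cZU.eq]; noncomm_ring
      rw [hh2] at hh
      linear_combination (norm := noncomm_ring) hh - e1
    have hcX : W * X * W' - X = (f c - 1) * X := by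
      rw [sub_mul, one_mul, hX, hW, hW', hc, ← map_mul, ← map_mul, ← map_mul]
      congr 2; group
    have hdY : U * Y * U' - Y = (f d - 1) * Y := by
      rw [sub_mul, one_mul, hY, hU, hU', hd, ← map_mul, ← map_mul, ← map_mul]
      congr 2; group
    have hvK : v * k * v⁻¹ * k⁻¹ ∈ K :=
      K.mul_mem (K.mul_mem (K.mul_mem hv hk) (K.inv_mem hv)) (K.inv_mem hk)
    have cXd : X * (f d - 1) = (f d - 1) * X :=
      Commute.sub_right (map_comm (hc12 k hk _ hvK) : X * f d = f d * X) (Commute.one_right _)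
    rw [hcX, hdY] at e2
    have e3 : ((f c - 1) * (f d - 1)) * (X * Y) = 0 := by
      rw [← e2, mul_assoc, ← mul_assoc (f d - 1), ← cXd]; noncomm_ring
    have e4 : (f c - 1) * (f d - 1) = 0 := by
      rw [hX, hY, ← map_mul] at e3
      exact op_cancel_right _ (e3.trans (zero_mul _).symm)
    rw [hc, hd, conj_sub_one, conj_sub_one (f := f) a (a * _ * a⁻¹)] at e4
    have e5 : f a * ((f (w * k * w⁻¹ * k⁻¹) - 1) * (f (a * (v * k * v⁻¹ * k⁻¹) * a⁻¹) - 1)) *
        f a⁻¹ = 0 := by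
      refine Eq.trans ?_ e4
      have : f a⁻¹ * f a = 1 := by rw [← map_mul, inv_mul_cancel, map_one]
      conv_rhs => rw [mul_assoc (f a * _) (f a⁻¹), ← mul_assoc (f a⁻¹) (f a * _),
        ← mul_assoc (f a⁻¹) (f a), this, one_mul]
      noncomm_ring
    apply op_cancel a
    apply op_cancel_right a⁻¹
    rw [e5, mul_zero, zero_mul]
  obtain ⟨y, hy, x, hx, hnc⟩ := hP.quasi.exists_noncentral
    (b := k₀) (fun k hk => K.mul_mem (K.mul_mem hk₀ hk) (K.inv_mem hk₀)) hl₀ hne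
  have hg : y * k₀ * y⁻¹ * k₀⁻¹ ∈ K :=
    K.mul_mem (K.mul_mem (K.mul_mem hy hk₀) (K.inv_mem hy)) (K.inv_mem hk₀)
  intro k hk l hl
  refine pair_fix hP.quasi (hP.quasi.cj a) ?_ hg (mem_cj hg) hx hnc (mem_cj hx) ?_
    (hD k₀ hk₀ y hy y hy) k hk _ (mem_cj hl)
  · intro u hu v hv
    obtain ⟨m, hm', rfl⟩ := exists_of_mem_cj hv
    exact (hP.commutes ha h1 hm' hu).symm
  · intro h
    apply hnc
    calc x * (y * k₀ * y⁻¹ * k₀⁻¹)
        = a⁻¹ * ((a * x * a⁻¹) * (a * (y * k₀ * y⁻¹ * k₀⁻¹) * a⁻¹)) * a := by group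
      _ = a⁻¹ * ((a * (y * k₀ * y⁻¹ * k₀⁻¹) * a⁻¹) * (a * x * a⁻¹)) * a := by rw [h]
      _ = _ := by group

/-- Case II: a quadratic element moving `K`. -/
theorem odd_case_two (hp : p ≠ 2) (hP : Pair p K A) (hm : Minimal f K A) {a : G} (ha : a ∈ A)
    (h1 : a ∉ stab K A) (haa : (f a - 1) * (f a - 1) = 0) : False := by
  have hpr : p.Prime := Fact.out
  have hodd : Odd p := hpr.odd_of_ne_two hp
  have hroot : ∀ g ∈ A, g * g ∈ stab K A → g ∈ stab K A := by
    intro g hg h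
    obtain ⟨m, hm'⟩ := hodd
    have e : g = (g * g) ^ (m + 1) := by
      rw [← pow_two, ← pow_mul, show 2 * (m + 1) = p + 1 by omega, pow_succ, hP.exp g hg, one_mul]
    rw [e]; exact Subgroup.pow_mem _ h _
  by_cases hcent : ∀ k ∈ K, ∀ l ∈ K, k * l = l * k
  · exact hm.false_of_trivial (hP.quasi.eq_one_of_comm fun k hk l hl => map_comm (hcent k hk l hl))
  push Not at hcent
  obtain ⟨k₀, hk₀, l₀, hl₀, hne⟩ := hcent
  have haA := A.mul_mem ha ha
  have h2 : a * a ∉ stab K A := fun h => h1 (hroot a ha h)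
  have hq2 : (f (a * a) - 1) * (f (a * a) - 1) = 0 := by
    rw [map_mul]
    calc (f a * f a - 1) * (f a * f a - 1)
        = ((f a - 1) * (f a - 1)) * ((f a + 1) * (f a + 1)) := by noncomm_ring
      _ = 0 := by rw [haa, zero_mul]
  have S1 := odd_quadratic_step hp hP ha h1 h2 haa hk₀ hl₀ hne
  have S2 := odd_quadratic_step hp hP haA h2 (fun h => h2 (hroot _ haA h)) hq2 hk₀ hl₀ hne
  refine hm.false_of_trivial (hP.quasi.eq_one_of_sq fun k hk l hl => ?_)
  have e1 : (f k - 1) * f a * (f l - 1) = 0 := by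
    have : f a * (f l - 1) = (f (a * l * a⁻¹) - 1) * f a := by
      rw [mul_sub, sub_mul, mul_one, one_mul, ← map_mul, ← map_mul]; congr 2; group
    rw [mul_assoc, this, ← mul_assoc, S1 k hk l hl, zero_mul]
  have e2 : (f k - 1) * (f a * f a) * (f l - 1) = 0 := by
    have : f (a * a) * (f l - 1) = (f (a * a * l * (a * a)⁻¹) - 1) * f (a * a) := by
      rw [mul_sub, sub_mul, mul_one, one_mul, ← map_mul, ← map_mul]; congr 2; group
    rw [← map_mul, mul_assoc, this, ← mul_assoc, S2 k hk l hl, zero_mul]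
  have e3 : (f k - 1) * ((f a - 1) * (f a - 1)) * (f l - 1) = 0 := by
    rw [haa, mul_zero, zero_mul]
  linear_combination (norm := noncomm_ring) e3 - e2 + e1 + e1

end Cfsg.Lib.Offender
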