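import Cfsg.Agent.Lib.Offender.Replace

/-!
Elementary consequences of `Pair` and `Minimal`.
-/

set_option autoImplicit false

namespace Cfsg.Lib.Offender

variable {p : ℕ} {G V : Type*} [Group G] [AddCommGroup V] [Module (ZMod p) V]

/-- The conjugate subgroup `g K g⁻¹`. -/
def cj (K : Subgroup G) (g : G) : Subgroup G := K.map (MulAut.conj g).toMonoidHom

theorem mem_cj {K : Subgroup G} {g k : G} (hk : k ∈ K) : g * k * g⁻¹ ∈ cj K g := ⟨k, hk, rfl⟩

theorem exists_of_mem_cj {K : Subgroup G} {g x : G} (hx : x ∈ cj K g) :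
    ∃ k ∈ K, g * k * g⁻¹ = x := hx

theorem Quasi.cj {K : Subgroup G} (hK : Quasi K) (g : G) : Quasi (cj K g) where
  perfect := by
    show ⁅K.map _, K.map _⁆ = K.map _
    rw [← Subgroup.map_commutator, hK.perfect]
  normal_sub N hN hnorm := by
    set e := (MulAut.conj g).toMonoidHom with he
    have hinj : Function.Injective e := (MulAut.conj g).injective
    rcases hK.normal_sub (N.comap e) (fun x hx => by
        obtain ⟨k, hk, hkx⟩ := hN hx
        rwa [← hinj hkx])
      (fun x hx n hn => by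
        show e (x * n * x⁻¹) ∈ N
        rw [map_mul, map_mul, map_inv]
        exact hnorm _ ⟨x, hx, rfl⟩ _ hn) with h | h
    · left
      refine le_antisymm hN ?_
      rintro x ⟨k, hk, rfl⟩
      exact (h.symm ▸ hk : k ∈ N.comap e)
    · right
      rintro n hn x ⟨k, hk, rfl⟩
      obtain ⟨m, hm, rfl⟩ := hN hn
      rw [← map_mul, ← map_mul, h m hn k hk]

/-- The elements of `A` normalizing `K`. -/
def stab (K A : Subgroup G) : Subgroup G := A ⊓
  { carrier := {g | (∀ k ∈ K, g * k * g⁻¹ ∈ K) ∧ ∀ k ∈ K, g⁻¹ * k * g ∈ K}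
    one_mem' := ⟨fun k hk => by simpa using hk, fun k hk => by simpa using hk⟩
    mul_mem' := fun {g h} hg hh => ⟨fun k hk => by
        rw [show g * h * k * (g * h)⁻¹ = g * (h * k * h⁻¹) * g⁻¹ by group]
        exact hg.1 _ (hh.1 k hk), fun k hk => by
        rw [show (g * h)⁻¹ * k * (g * h) = h⁻¹ * (g⁻¹ * k * g) * h by group]
        exact hh.2 _ (hg.2 k hk)⟩
    inv_mem' := fun {g} hg => ⟨fun k hk => by simpa using hg.2 k hk,
      fun k hk => by simpa using hg.1 k hk⟩ }

theorem stab_le (K A : Subgroup G) : stab K A ≤ A := inf_le_left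

theorem conj_mem_of_stab {K A : Subgroup G} {g k : G} (hg : g ∈ stab K A) (hk : k ∈ K) :
    g * k * g⁻¹ ∈ K := hg.2.1 k hk

variable {f : Representation (ZMod p) G V} {K A : Subgroup G}

theorem conj_pow_mem {g k : G} (h : ∀ k ∈ K, g * k * g⁻¹ ∈ K) (hk : k ∈ K) (n : ℕ) :
    g ^ n * k * (g ^ n)⁻¹ ∈ K := by
  induction n with
  | zero => simpa using hk
  | succ n ih =>
    rw [pow_succ', show g * g ^ n * k * (g * g ^ n)⁻¹ = g * (g ^ n * k * (g ^ n)⁻¹) * g⁻¹ by group]
    exact h _ ih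

theorem Pair.mem_stab [Fact p.Prime] (hP : Pair p K A) {g : G} (hg : g ∈ A)
    (h : ∀ k ∈ K, g * k * g⁻¹ ∈ K) : g ∈ stab K A := by
  refine ⟨hg, h, fun k hk => ?_⟩
  have e : g ^ (p - 1) = g⁻¹ := by
    apply eq_inv_of_mul_eq_one_left
    rw [← pow_succ, Nat.sub_add_cancel (Fact.out (p := p.Prime)).one_le, hP.exp g hg]
  have := conj_pow_mem h hk (p - 1)
  rwa [e, inv_inv] at this

theorem Pair.commutes [Fact p.Prime] (hP : Pair p K A) {g : G} (hg : g ∈ A) (h : g ∉ stab K A)
    {k l : G} (hk : k ∈ K) (hl : l ∈ K) :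
    (g * k * g⁻¹) * l = l * (g * k * g⁻¹) :=
  (hP.move g hg).elim (fun h' => absurd (hP.mem_stab hg h') h) fun h' => h' k hk l hl

theorem Pair.commutes₂ [Fact p.Prime] (hP : Pair p K A) {g h : G} (hg : g ∈ A) (hh : h ∈ A)
    (hgh : g⁻¹ * h ∉ stab K A) {k l : G} (hk : k ∈ K) (hl : l ∈ K) :
    (g * k * g⁻¹) * (h * l * h⁻¹) = (h * l * h⁻¹) * (g * k * g⁻¹) := by
  have e := hP.commutes (A.mul_mem (A.inv_mem hg) hh) hgh hl hk
  calc (g * k * g⁻¹) * (h * l * h⁻¹)
      = g * (k * ((g⁻¹ * h) * l * (g⁻¹ * h)⁻¹)) * g⁻¹ := by group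
    _ = g * (((g⁻¹ * h) * l * (g⁻¹ * h)⁻¹) * k) * g⁻¹ := by rw [e]
    _ = (h * l * h⁻¹) * (g * k * g⁻¹) := by group

theorem Minimal.false_of_trivial (hm : Minimal f K A) (h : ∀ k ∈ K, f k = 1) : False := by
  obtain ⟨k, hk, hne⟩ := hm.nontriv
  exact hne (h k hk)

/-- An element of `A` acting nontrivially and normalizing `K` has a noncentral commutator. -/
theorem Pair.exists_commutator [Fact p.Prime] (hP : Pair p K A) (hm : Minimal f K A) {b : G}
    (hb : b ∈ stab K A) (hne : f b ≠ 1) :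
    ∃ y ∈ K, ∃ x ∈ K, x * (y * b * y⁻¹ * b⁻¹) ≠ (y * b * y⁻¹ * b⁻¹) * x := by
  by_contra hno
  have hcent : ∀ k ∈ K, b * k = k * b := by
    intro k hk
    by_contra hk'
    exact hno (hP.quasi.exists_noncentral (fun l hl => conj_mem_of_stab hb hl) hk hk')
  refine hne (sub_eq_zero.1 (hm.eq_zero hP.quasi (f b - 1) (n := p)
    (sub_one_pow (hP.exp b hb.1)) (fun k hk => ?_) (fun a ha => ?_)))
  · exact Commute.sub_right (map_comm (hcent k hk).symm : f k * f b = f b * f k)
      (Commute.one_right _)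
  · exact Commute.sub_right (map_comm (hP.comm a ha b hb.1) : f a * f b = f b * f a)
      (Commute.one_right _)

/-- A product of two fixers of two commuting perfect subgroups. -/
theorem pair_fix {K L : Subgroup G} (hK : Quasi K) (hL : Quasi L)
    (hc : ∀ k ∈ K, ∀ l ∈ L, k * l = l * k) {g h y z : G} (hg : g ∈ K) (hh : h ∈ L) (hy : y ∈ K)
    (hyg : y * g ≠ g * y) (hz : z ∈ L) (hzh : z * h ≠ h * z) (e : (f g - 1) * (f h - 1) = 0) :
    ∀ k ∈ K, ∀ l ∈ L, (f k - 1) * (f l - 1) = 0 := by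
  have h1 : ∀ k ∈ K, (f k - 1) * (f h - 1) = 0 := by
    intro k hk
    have : k ∈ lfix f (f h - 1) := by
      refine hK.le_of_mem (fun x hx m _ hm => lfix_conj ?_ hm) hg ?_ hy hyg hk
      · exact Commute.sub_right (map_comm (hc x hx h hh) : f x * f h = f h * f x)
          (Commute.one_right _)
      · rw [mem_lfix]
        rw [sub_mul, one_mul, sub_eq_zero] at e
        exact e
    rw [mem_lfix] at this
    rw [sub_mul, one_mul, this, sub_self]
  intro k hk l hl
  have hkh : (f h - 1) * (f k - 1) = 0 := by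
    have hcm : Commute (f h - 1) (f k - 1) :=
      ((show Commute (f h) (f k) from (map_comm (hc k hk h hh)).symm).sub_right
        (Commute.one_right _)).sub_left (Commute.one_left _)
    rw [hcm.eq, h1 k hk]
  have : l ∈ lfix f (f k - 1) := by
    refine hL.le_of_mem (fun x hx m _ hm => lfix_conj ?_ hm) hh ?_ hz hzh hl
    · exact Commute.sub_right ((map_comm (hc k hk x hx)).symm : f x * f k = f k * f x)
        (Commute.one_right _)
    · rw [mem_lfix]
      rw [sub_mul, one_mul, sub_eq_zero] at hkh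
      exact hkh
  have hcm : Commute (f k - 1) (f l - 1) :=
    ((show Commute (f k) (f l) from map_comm (hc k hk l hl)).sub_right
      (Commute.one_right _)).sub_left (Commute.one_left _)
  rw [mem_lfix] at this
  rw [hcm.eq, sub_mul, one_mul, this, sub_self]

theorem conj_sub_one (x b : G) : f (x * b * x⁻¹) - 1 = f x * (f b - 1) * f x⁻¹ := by
  rw [mul_sub, sub_mul, mul_one, ← map_mul, ← map_mul, ← map_mul, mul_inv_cancel, map_one]

end Cfsg.Lib.Offender
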