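import Cfsg.Agent.Lib.Offender.Setup

/-!
Characteristic two: reduction to an element fixed by the diagonal of `K × aKa⁻¹`.
-/

set_option autoImplicit false

namespace Cfsg.Lib.Offender

variable {G V : Type*} [Group G] [AddCommGroup V] [Module (ZMod 2) V]
variable {f : Representation (ZMod 2) G V} {K A : Subgroup G}

/-- The diagonal `k * (a k a⁻¹)`. -/
def diag (a k : G) : G := k * (a * k * a⁻¹)

theorem diag_one (a : G) : diag a 1 = 1 := by simp [diag]

theorem diag_mul (hP : Pair 2 K A) {a : G} (ha : a ∈ A) (hmove : a ∉ stab K A) {k l : G}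
    (hk : k ∈ K) (hl : l ∈ K) : diag a (k * l) = diag a k * diag a l := by
  have e := hP.commutes ha hmove hk hl
  unfold diag
  calc k * l * (a * (k * l) * a⁻¹) = k * (l * (a * k * a⁻¹)) * (a * l * a⁻¹) := by group
    _ = k * ((a * k * a⁻¹) * l) * (a * l * a⁻¹) := by rw [e]
    _ = _ := by group

theorem diag_inv (hP : Pair 2 K A) {a : G} (ha : a ∈ A) (hmove : a ∉ stab K A) {k : G}
    (hk : k ∈ K) : diag a k⁻¹ = (diag a k)⁻¹ := by
  refine eq_inv_of_mul_eq_one_left ?_
  rw [← diag_mul hP ha hmove (K.inv_mem hk) hk, inv_mul_cancel, diag_one]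

theorem sq_eq_one (hP : Pair 2 K A) {a : G} (ha : a ∈ A) : a * a = 1 := by
  simpa [pow_two] using hP.exp a ha

theorem inv_eq_self (hP : Pair 2 K A) {a : G} (ha : a ∈ A) : a⁻¹ = a :=
  inv_eq_of_mul_eq_one_right (sq_eq_one hP ha)

theorem diag_comm (hP : Pair 2 K A) {a : G} (ha : a ∈ A) (hmove : a ∉ stab K A) {k : G}
    (hk : k ∈ K) : diag a k * a = a * diag a k := by
  have e := hP.commutes ha hmove hk hk
  have hi := inv_eq_self hP ha
  unfold diag
  calc k * (a * k * a⁻¹) * a = k * a * k := by group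
    _ = a * (a * k * a⁻¹) * k := by rw [hi, ← mul_assoc, ← mul_assoc, sq_eq_one hP ha, one_mul]
    _ = a * ((a * k * a⁻¹) * k) := by rw [mul_assoc]
    _ = a * (k * (a * k * a⁻¹)) := by rw [e]

/-- The elements of `K` whose diagonal fixes `T`. -/
def diagSub (hP : Pair 2 K A) {a : G} (ha : a ∈ A) (hmove : a ∉ stab K A)
    (T : Module.End (ZMod 2) V) (f : Representation (ZMod 2) G V) : Subgroup G where
  carrier := {k | k ∈ K ∧ diag a k ∈ lfix f T}
  one_mem' := ⟨K.one_mem, by rw [diag_one]; exact one_mem _⟩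
  mul_mem' {k l} hk hl := ⟨K.mul_mem hk.1 hl.1, by
    rw [diag_mul hP ha hmove hk.1 hl.1]; exact Subgroup.mul_mem _ hk.2 hl.2⟩
  inv_mem' {k} hk := ⟨K.inv_mem hk.1, by
    rw [diag_inv hP ha hmove hk.1]; exact Subgroup.inv_mem _ hk.2⟩

/-- The conclusion of the reduction. -/
def DiagFixes (f : Representation (ZMod 2) G V) (K A : Subgroup G) : Prop :=
  ∃ a ∈ A, a ∉ stab K A ∧ ∀ k ∈ K, f (diag a k) * (f a - 1) = f a - 1

theorem two_case_one (hP : Pair 2 K A) (hm : Minimal f K A) {a b : G}
    (hb : b ∈ stab K A) (hbne : f b ≠ 1) (ha : a ∈ A) (hmove : a ∉ stab K A)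
    (hba : (f b - 1) * (f a - 1) = 0) : DiagFixes f K A := by
  obtain ⟨y, hy, x₀, hx₀, hnc⟩ := hP.exists_commutator hm hb hbne
  set c := y * b * y⁻¹ * b⁻¹ with hc
  have hbK : ∀ k ∈ K, b * k * b⁻¹ ∈ K := fun k hk => conj_mem_of_stab hb hk
  have hcK : c ∈ K := by
    rw [hc, show y * b * y⁻¹ * b⁻¹ = y * (b * y⁻¹ * b⁻¹) by group]
    exact K.mul_mem hy (hbK _ (K.inv_mem hy))
  have hab := hP.comm a ha b hb.1
  set F := f a - 1 with hF
  have hcomF : ∀ k ∈ K, f (diag a k) * F = F * f (diag a k) := fun k hk =>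
    Commute.sub_right (map_comm (diag_comm hP ha hmove hk) : f (diag a k) * f a = _)
      (Commute.one_right _)
  have hbF : f b * F = F := by
    rw [sub_mul, one_mul, sub_eq_zero] at hba
    exact hba
  have hcS : c ∈ diagSub hP ha hmove F f := by
    refine ⟨hcK, ?_⟩
    rw [mem_lfix]
    have e : diag a y * b * (diag a y)⁻¹ = diag a c * b := by
      have hy1 : y * (a * c * a⁻¹) = (a * c * a⁻¹) * y := (hP.commutes ha hmove hcK hy).symm
      have hcc : c * (a * c * a⁻¹) = (a * c * a⁻¹) * c := (hP.commutes ha hmove hcK hcK).symm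
      have hai : a⁻¹ * b = b * a⁻¹ := ((show Commute a b from hab).inv_left).eq
      have h1 : (a * y * a⁻¹) * b * (a * y * a⁻¹)⁻¹ = (a * c * a⁻¹) * b := by
        calc (a * y * a⁻¹) * b * (a * y * a⁻¹)⁻¹ = a * y * (a⁻¹ * b) * a * y⁻¹ * a⁻¹ := by group
          _ = a * y * (b * a⁻¹) * a * y⁻¹ * a⁻¹ := by rw [hai]
          _ = a * c * (b * a⁻¹) := by rw [hc]; group
          _ = (a * c * a⁻¹) * b := by rw [← hai]; group
      unfold diag
      calc y * (a * y * a⁻¹) * b * (y * (a * y * a⁻¹))⁻¹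
          = y * ((a * y * a⁻¹) * b * (a * y * a⁻¹)⁻¹) * y⁻¹ := by group
        _ = (y * (a * c * a⁻¹)) * b * y⁻¹ := by rw [h1]; group
        _ = (a * c * a⁻¹) * (y * b * y⁻¹) := by rw [hy1]; group
        _ = ((a * c * a⁻¹) * c) * b := by rw [hc]; group
        _ = _ := by rw [← hcc]
    have h2 : f (diag a y * b * (diag a y)⁻¹) * F = F := by
      have hi : f (diag a y)⁻¹ * F = F * f (diag a y)⁻¹ := by
        rw [← diag_inv hP ha hmove hy]; exact hcomF _ (K.inv_mem hy)
      rw [map_mul, map_mul, mul_assoc, hi, ← mul_assoc, mul_assoc _ (f b), hbF, hcomF y hy,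
        mul_assoc, ← map_mul, mul_inv_cancel, map_one, mul_one]
    rwa [e, map_mul, mul_assoc, hbF] at h2
  refine ⟨a, ha, hmove, fun k hk => ?_⟩
  have : k ∈ diagSub hP ha hmove F f := by
    refine hP.quasi.le_of_mem (fun u hu m hmK hm' => ?_) hcK hcS hx₀ hnc hk
    refine ⟨K.mul_mem (K.mul_mem hu hmK) (K.inv_mem hu), ?_⟩
    rw [diag_mul hP ha hmove (K.mul_mem hu hmK) (K.inv_mem hu), diag_mul hP ha hmove hu hmK,
      diag_inv hP ha hmove hu]
    exact lfix_conj (hcomF u hu) hm'.2
  exact this.2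

theorem pow_twelve [Finite V] (u : G) (U : Submodule (ZMod 2) V) (hU : Nat.card ↥U ≤ 4)
    (hu : ∀ v, f u v - v ∈ U) : f (u ^ 12) = 1 := by
  have hinv : ∀ n : ℕ, ∀ x ∈ U, f (u ^ n) x ∈ U := by
    intro n
    induction n with
    | zero => intro x hx; simpa using hx
    | succ n ih =>
      intro x hx
      rw [pow_succ', map_mul, Module.End.mul_apply]
      simpa using U.add_mem (hu (f (u ^ n) x)) (ih x hx)
  have hinj : ∀ n : ℕ, Function.Injective (f (u ^ n)) := fun n => (f.apply_bijective _).1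
  have h6 : ∀ x ∈ U, f (u ^ 6) x = x := by
    intro x hx
    by_cases hx0 : x = 0
    · simp [hx0]
    let g : Fin 4 → {y : ↥U // y ≠ 0} := fun i => ⟨⟨f (u ^ (i : ℕ)) x, hinv i x hx⟩, fun h => by
      have h' : f (u ^ (i : ℕ)) x = 0 := congrArg Subtype.val h
      exact hx0 (hinj i (h'.trans (map_zero _).symm))⟩
    have hcard : Nat.card {y : ↥U // y ≠ 0} < Nat.card (Fin 4) := by
      rw [Nat.card_fin]
      have := Finite.card_subtype_lt (α := ↥U) (p := fun y => y ≠ 0) (x := 0) (by simp)
      omega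
    obtain ⟨i, j, hne, hij⟩ : ∃ i j, i ≠ j ∧ g i = g j := by
      by_contra h
      push Not at h
      exact absurd (Nat.card_le_card_of_injective g fun i j e => by_contra fun n => h i j n e)
        (not_le.2 hcard)
    have he : f (u ^ (i : ℕ)) x = f (u ^ (j : ℕ)) x := congrArg (fun y : {y : ↥U // y ≠ 0} => ((y : ↥U) : V)) hij
    have key : ∀ m n : ℕ, m < n → n < 4 → f (u ^ m) x = f (u ^ n) x → f (u ^ 6) x = x := by
      intro m n hmn hn4 e
      have hper : f (u ^ (n - m)) x = x := by
        apply hinj m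
        rw [← Module.End.mul_apply, ← map_mul, ← pow_add, Nat.add_sub_cancel' hmn.le, ← e]
      have hk : ∀ k : ℕ, f (u ^ ((n - m) * k)) x = x := by
        intro k
        induction k with
        | zero => simp
        | succ k ih => rw [Nat.mul_succ, pow_add, map_mul, Module.End.mul_apply, hper, ih]
      obtain ⟨k, hk'⟩ : n - m ∣ 6 := by
        rcases (by omega : n - m = 1 ∨ n - m = 2 ∨ n - m = 3) with h | h | h <;> rw [h] <;> norm_num
      rw [hk']
      exact hk k
    rcases lt_or_gt_of_ne (fun h => hne (Fin.ext h) : (i : ℕ) ≠ j) with h | h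
    · exact key i j h j.2 he
    · exact key j i h i.2 he.symm
  apply LinearMap.ext
  intro v
  have hd : f (u ^ 6) v - v ∈ U := by
    have : ∀ n : ℕ, f (u ^ n) v - v ∈ U := by
      intro n
      induction n with
      | zero => simp
      | succ n ih =>
        rw [pow_succ', map_mul, Module.End.mul_apply]
        have := U.add_mem (hu (f (u ^ n) v)) ih
        rwa [sub_add_sub_cancel] at this
    exact this 6
  have h := h6 _ hd
  rw [map_sub, ← Module.End.mul_apply, ← map_mul, ← pow_add] at h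
  have h2 : ∀ w : V, w + w = 0 := fun w => by
    rw [← two_smul (ZMod 2) w, show (2 : ZMod 2) = 0 from rfl, zero_smul]
  rw [Module.End.one_apply]
  have e : f (u ^ 12) v = f (u ^ 6) v + f (u ^ 6) v - v := by
    rw [show (12 : ℕ) = 6 + 6 from rfl]
    linear_combination (norm := abel) h
  rw [e, h2, zero_sub, eq_comm, eq_neg_iff_add_eq_zero, h2]

theorem two_case_two [Finite G] [Finite V] (hP : Pair 2 K A) (hm : Minimal f K A) (hO : Offends f A)
    {B : Subgroup G} (hBA : B ≤ A)
    (hB : Nat.card ↥A * Nat.card ↥(fixed f A) ≤ Nat.card ↥B * Nat.card ↥(fixed f B))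
    (hquad : ∀ b ∈ B, ∀ c ∈ B, (f b - 1) * (f c - 1) = 0)
    (htriv : ∀ b ∈ B, b ∈ stab K A → f b = 1) {b : G} (hbB : b ∈ B) (hb : b ∉ stab K A) :
    DiagFixes f K A := by
  have hbA := hBA hbB
  have hbi := inv_eq_self hP hbA
  have hbb := sq_eq_one hP hbA
  by_cases hfour : ∃ a ∈ B, a ∉ stab K A ∧ b * a ∉ stab K A
  · obtain ⟨a, haB, ha, hba⟩ := hfour
    have haA := hBA haB
    have hab := hP.comm a haA b hbA
    set δ := f b - 1 with hδ
    have haδ : f a * δ = δ := by
      have := hquad a haB b hbB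
      rw [sub_mul, one_mul, sub_eq_zero] at this
      exact this
    have hcomδ : ∀ k ∈ K, f (diag b k) * δ = δ * f (diag b k) := fun k hk =>
      Commute.sub_right (map_comm (diag_comm hP hbA hb hk) : f (diag b k) * f b = _)
        (Commute.one_right _)
    -- `diag b w` commutes with the `a`-conjugate of `diag b k`
    have hcc : ∀ w ∈ K, ∀ k ∈ K,
        diag b w * (a * diag b k * a⁻¹) = (a * diag b k * a⁻¹) * diag b w := by
      intro w hw k hk
      have hai := inv_eq_self hP haA
      have habA := A.mul_mem haA hbA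
      have h1 : Commute w (a * k * a⁻¹) := (hP.commutes haA ha hk hw).symm
      have h2 : Commute w ((a * b) * k * (a * b)⁻¹) :=
        (hP.commutes habA (by rwa [hab]) hk hw).symm
      have h3 : Commute (b * w * b⁻¹) (a * k * a⁻¹) :=
        hP.commutes₂ hbA haA (by rwa [hbi]) hw hk
      have h4 : Commute (b * w * b⁻¹) ((a * b) * k * (a * b)⁻¹) := by
        refine hP.commutes₂ hbA habA ?_ hw hk
        rwa [hbi, hab, ← mul_assoc, hbb, one_mul]
      have e : a * diag b k * a⁻¹ = (a * k * a⁻¹) * ((a * b) * k * (a * b)⁻¹) := by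
        unfold diag; group
      rw [e]
      exact ((h1.mul_right h2).mul_left (h3.mul_right h4)).eq
    have hde : ∀ k ∈ K, f (diag b k) * δ = f (a * diag b k * a⁻¹) * δ := by
      intro k hk
      have h1 : f (diag b k * a * (diag b k)⁻¹) * δ = δ := by
        have hi : f (diag b k)⁻¹ * δ = δ * f (diag b k)⁻¹ := by
          rw [← diag_inv hP hbA hb hk]; exact hcomδ _ (K.inv_mem hk)
        rw [map_mul, map_mul, mul_assoc, hi, ← mul_assoc, mul_assoc _ (f a), haδ, hcomδ k hk,
          mul_assoc, ← map_mul, mul_inv_cancel, map_one, mul_one]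
      have h2 : diag b k * a * (diag b k)⁻¹ = ((a * diag b k * a⁻¹)⁻¹ * diag b k) * a := by
        have hc' := hcc k hk k hk
        calc diag b k * a * (diag b k)⁻¹
            = diag b k * (a * diag b k * a⁻¹)⁻¹ * a := by group
          _ = _ := by
            rw [((show Commute (diag b k) (a * diag b k * a⁻¹) from hc').inv_right).eq]
      rw [h2, map_mul, mul_assoc, haδ, map_mul, mul_assoc] at h1
      conv_rhs => rw [← h1]
      rw [← mul_assoc, ← map_mul, mul_inv_cancel, map_one, one_mul]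
    refine ⟨b, hbA, hb, fun k hk => ?_⟩
    have : k ∈ diagSub hP hbA hb δ f := by
      refine hP.quasi.le_of_comm (S := diagSub hP hbA hb δ f) (fun x hx y hy => ⟨K.mul_mem (K.mul_mem (K.mul_mem hx hy)
        (K.inv_mem hx)) (K.inv_mem hy), ?_⟩) hk
      rw [mem_lfix]
      have hxi := K.inv_mem hx
      have e : diag b (x * y * x⁻¹ * y⁻¹) =
          diag b x * (diag b y * diag b x⁻¹ * (diag b y)⁻¹) := by
        rw [← diag_inv hP hbA hb hy, ← diag_mul hP hbA hb hy hxi,
          ← diag_mul hP hbA hb (K.mul_mem hy hxi) (K.inv_mem hy),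
          ← diag_mul hP hbA hb hx (K.mul_mem (K.mul_mem hy hxi) (K.inv_mem hy))]
        congr 1; group
      have hi : f (diag b y)⁻¹ * δ = δ * f (diag b y)⁻¹ := by
        rw [← diag_inv hP hbA hb hy]; exact hcomδ _ (K.inv_mem hy)
      have hyE : f (diag b y) * f (a * diag b x⁻¹ * a⁻¹) =
          f (a * diag b x⁻¹ * a⁻¹) * f (diag b y) := map_comm (hcc y hy _ hxi)
      have h3 : f (diag b y * diag b x⁻¹ * (diag b y)⁻¹) * δ = f (diag b x⁻¹) * δ := by
        rw [map_mul, map_mul, mul_assoc, hi, ← mul_assoc, mul_assoc _ (f (diag b x⁻¹)), hde _ hxi,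
          ← mul_assoc, hyE, mul_assoc _ (f (diag b y)), hcomδ y hy, mul_assoc, mul_assoc δ,
          ← map_mul (f) (diag b y), mul_inv_cancel, map_one, mul_one]
      rw [e, map_mul, mul_assoc, h3, ← mul_assoc, ← map_mul, ← diag_mul hP hbA hb hx hxi,
        mul_inv_cancel, diag_one, map_one, one_mul]
    exact this.2
  · exfalso
    push Not at hfour
    have hB2 : ∀ g ∈ B, f g = 1 ∨ f g = f b := by
      intro g hg
      by_cases h : g ∈ stab K A
      · exact Or.inl (htriv g hg h)
      · refine Or.inr ?_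
        have h1 := htriv _ (B.mul_mem hbB hg) (hfour g hg h)
        apply op_cancel b
        rw [← map_mul, h1, ← map_mul, hbb, map_one]
    have hB0 : Nat.card ↥B ≤ 2 * Nat.card ↥(B ⊓ stab K A) := by
      classical
      have hbool : Nat.card Bool = 2 := Nat.card_eq_two_iff.2 ⟨true, false, by simp, by ext b; cases b <;> simp⟩
      rw [← hbool, ← Nat.card_prod]
      refine Nat.card_le_card_of_injective (fun g : ↥B => if h : (g : G) ∈ stab K A then
        (true, (⟨g, g.2, h⟩ : ↥(B ⊓ stab K A))) else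
        (false, ⟨b * g, B.mul_mem hbB g.2, hfour g g.2 h⟩)) ?_
      intro g₁ g₂ h
      by_cases h1 : (g₁ : G) ∈ stab K A <;> by_cases h2 : (g₂ : G) ∈ stab K A <;>
        simp [h1, h2] at h <;> exact Subtype.ext (by simpa using congrArg Subtype.val h)
    have hfix : fixed f B ≤ LinearMap.ker (f b - 1) := fun v hv => by
      rw [LinearMap.mem_ker, LinearMap.sub_apply, hv b hbB, Module.End.one_apply, sub_self]
    have htop : fixed f (B ⊓ stab K A) = ⊤ := by
      refine eq_top_iff.2 fun v _ g hg => ?_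
      rw [htriv g hg.1 hg.2, Module.End.one_apply]
    have hker : Nat.card V ≤ 2 * Nat.card ↥(LinearMap.ker (f b - 1)) := by
      have h1 := hO (B ⊓ stab K A) (inf_le_left.trans hBA)
      have e : Nat.card ↥(fixed f (B ⊓ stab K A)) = Nat.card V := by
        rw [htop]; exact Nat.card_congr Submodule.topEquiv.toEquiv
      rw [e] at h1
      have h2 : Nat.card ↥(fixed f B) ≤ Nat.card ↥(LinearMap.ker (f b - 1)) :=
        Nat.card_mono (Set.toFinite _) (SetLike.coe_subset_coe.2 hfix)
      have h3 : Nat.card ↥(B ⊓ stab K A) * Nat.card V ≤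
          Nat.card ↥(B ⊓ stab K A) * (2 * Nat.card ↥(LinearMap.ker (f b - 1))) :=
        calc _ ≤ _ := h1.trans hB
          _ ≤ (2 * Nat.card ↥(B ⊓ stab K A)) * Nat.card ↥(LinearMap.ker (f b - 1)) :=
            Nat.mul_le_mul hB0 h2
          _ = _ := by ring
      exact Nat.le_of_mul_le_mul_left h3 Nat.card_pos
    set R := LinearMap.range (f b - 1) with hR
    have hR2 : Nat.card ↥R ≤ 2 := by
      have h1 := Submodule.card_eq_card_quotient_mul_card (LinearMap.ker (f b - 1))
      rw [Nat.card_congr (f b - 1).quotKerEquivRange.toEquiv] at h1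
      rw [h1] at hker
      exact Nat.le_of_mul_le_mul_left (by linarith) (Nat.card_pos (α := ↥(LinearMap.ker (f b - 1))))
    refine hm.false_of_trivial (hP.quasi.eq_one_of_exp fun k hk l hl => ?_)
    set k' := b * k * b⁻¹ with hk'
    set u := k * k'⁻¹ with hu
    set U := R.map (f k) ⊔ R with hU
    have hRmem : ∀ v, f b v - v ∈ R := fun v => ⟨v, by simp⟩
    have hu' : u = k * b * k⁻¹ * b := by
      rw [hu, hk', show (b * k * b⁻¹)⁻¹ = b * k⁻¹ * b⁻¹ by group, hbi]; group
    have h4 : Nat.card ↥U ≤ 4 := by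
      have h5 : Nat.card ↥(R.map (f k)) ≤ 2 :=
        le_trans (Nat.card_le_card_of_surjective
          (fun x : ↥R => (⟨f k x, Submodule.mem_map_of_mem x.2⟩ : ↥(R.map (f k))))
          (fun y => by
            obtain ⟨x, hx, hxy⟩ := Submodule.mem_map.1 y.2
            exact ⟨⟨x, hx⟩, Subtype.ext hxy⟩)) hR2
      let e : ↥(R.map (f k)) × ↥R → ↥U := fun x => ⟨x.1 + x.2,
        add_mem (Submodule.mem_sup_left x.1.2) (Submodule.mem_sup_right x.2.2)⟩
      have he : Function.Surjective e := fun z => by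
        obtain ⟨x, hx, y, hy, hxy⟩ := Submodule.mem_sup.1 z.2
        exact ⟨(⟨x, hx⟩, ⟨y, hy⟩), Subtype.ext hxy⟩
      calc Nat.card ↥U ≤ _ := Nat.card_le_card_of_surjective e he
        _ ≤ 2 * 2 := by rw [Nat.card_prod]; exact Nat.mul_le_mul h5 hR2
    have huU : ∀ v, f u v - v ∈ U := by
      intro v
      rw [hu', map_mul, map_mul, map_mul, Module.End.mul_apply, Module.End.mul_apply,
        Module.End.mul_apply]
      set w := f b v with hw
      have h5 : f k (f b (f k⁻¹ w)) - w ∈ R.map (f k) := by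
        refine ⟨_, hRmem (f k⁻¹ w), ?_⟩
        rw [map_sub, ← Module.End.mul_apply (f k) (f k⁻¹), ← map_mul, mul_inv_cancel, map_one,
          Module.End.one_apply]
      have := U.add_mem (Submodule.mem_sup_left h5) (Submodule.mem_sup_right (hRmem v))
      rwa [sub_add_sub_cancel] at this
    have hcm : Commute k k' := (hP.commutes hbA hb hk hk).symm
    have h12 : f (k ^ 12) = f (k' ^ 12) := by
      have := pow_twelve u U h4 huU
      rw [hu, (hcm.inv_right).mul_pow, map_mul, inv_pow] at this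
      apply op_cancel_right (k' ^ 12)⁻¹
      rw [this, ← map_mul, mul_inv_cancel, map_one]
    have hlk : Commute l (k' ^ 12) := Commute.pow_right (hP.commutes hbA hb hk hl).symm 12
    rw [h12]
    exact map_comm hlk.eq.symm

end Cfsg.Lib.Offender
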